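/-
Project GOLD, Lyons' theorem: the search trees for the degree equations.
-/
import Cfsg.Agent.Gold.LyonsBB

set_option autoImplicit false
set_option maxRecDepth 4000

namespace CL.Gold.Ly

open Tr

def tr0 : Tr :=
    (r 13)

theorem ref0 : Refuted true
    [⟨4, 0, 1, 1⟩, ⟨4, 0, 1, 1⟩, ⟨4, 0, 1, 1⟩, ⟨4, 0, 1, 0⟩, ⟨1, 1, 0, 0⟩, ⟨1, 1, 0, 1⟩, ⟨1, 1, 0, 1⟩, ⟨1, 1, 1, 1⟩] :=
  refuted_of_chk tr0 (cs := [⟨0, 1, 4, 1⟩, ⟨0, 1, 4, 1⟩, ⟨0, 1, 4, 1⟩, ⟨0, 1, 0, 16⟩, ⟨1, 0, 0, 16⟩, ⟨1, 0, 1, 1⟩, ⟨1, 0, 1, 1⟩, ⟨1, 1, 1, 225⟩])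
    (bs := [.both 65 63, .both 65 63, .both 65 63, .both 76 52, .both 76 52, .both 65 63, .both 65 63, .both 49 79])
    (by decide +kernel) (by decide +kernel) (by decide +kernel)

def tr1 : Tr :=
    (s 5 (r 37) (s 1 (s 1149 (s 617 (s 2 (r 13) (s 930 (s 0 (s 1040 (r 11) (l 67)) (l 57)) (r 13))) (r 13)) (s 617 (s
    2 (r 13) (s 1661 (s 930 (s 0 (s 1040 (r 11) (s 1552 (s 3 (s 4 (s 1547 (s 1548 (s 1035 (s 1036 (l 61) (r 11)) (r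
    11)) (r 11)) (r 11)) (r 11)) (r 11)) (l 67))) (l 57)) (r 13)) (s 930 (s 2173 (s 0 (s 1552 (l 57) (s 2064 (s 3 (s
    4 (s 2059 (s 2060 (s 1035 (s 1548 (r 13) (r 11)) (s 1548 (s 1036 (s 1547 (r 13) (r 11)) (r 11)) (r 11))) (r 11))
    (r 11)) (r 11)) (r 11)) (l 67))) (l 57)) (s 3197 (s 0 (s 2064 (l 57) (s 3088 (s 2685 (s 2576 (s 3 (s 4 (s 2571 (s
    2572 (s 1035 (r 13) (s 2060 (s 1036 (r 13) (s 2059 (s 1547 (s 1548 (l 61) (r 11)) (r 11)) (r 11))) (r 11))) (l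
    63)) (l 63)) (r 11)) (r 11)) (l 67)) (r 36)) (l 67))) (l 57)) (r 37))) (r 13)))) (r 13))) (r 13)))

theorem ref1 : Refuted false
    [⟨2, 0, 1, 2⟩, ⟨2, 0, 1, 1⟩, ⟨1, 1, 0, 0⟩, ⟨1, 1, 0, 1⟩, ⟨1, 1, 0, 1⟩, ⟨1, 1, 1, 1⟩] :=
  refuted_of_chk tr1 (cs := [⟨0, 1, 4, 4⟩, ⟨0, 1, 2, 9⟩, ⟨1, 0, 0, 16⟩, ⟨1, 0, 1, 1⟩, ⟨1, 0, 1, 1⟩, ⟨1, 1, 1, 225⟩])
    (bs := [.both 66 126, .both 13 51, .both 76 52, .both 65 63, .both 65 63, .both 49 79])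
    (by decide +kernel) (by decide +kernel) (by decide +kernel)

def tr2 : Tr :=
    (s 5 (r 37) (s 1149 (s 4 (s 948 (r 13) (s 1 (s 617 (s 2 (r 9) (s 3 (r 9) (s 1460 (r 17) (s 0 (l 87) (r 7))))) (r
    7)) (r 7))) (r 7)) (s 4 (r 19) (s 1 (s 617 (r 17) (s 2 (r 13) (s 3 (r 13) (l 61)))) (r 13)))))

theorem ref2 : Refuted true
    [⟨2, 0, 1, 2⟩, ⟨2, 0, 1, 1⟩, ⟨1, 1, 0, 0⟩, ⟨1, 1, 0, 0⟩, ⟨1, 1, 0, 2⟩, ⟨1, 1, 1, 1⟩] :=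
  refuted_of_chk tr2 (cs := [⟨0, 1, 4, 4⟩, ⟨0, 1, 2, 9⟩, ⟨1, 0, 0, 16⟩, ⟨1, 0, 0, 16⟩, ⟨1, 0, 2, 36⟩, ⟨1, 1, 1, 225⟩])
    (bs := [.both 66 126, .both 13 51, .both 76 52, .both 76 52, .both 54 138, .both 49 79])
    (by decide +kernel) (by decide +kernel) (by decide +kernel)

def tr3 : Tr :=
    (s 0 (s 616 (r 36) (r 13)) (r 13))

theorem ref3 : Refuted false
    [⟨4, 0, 2, 1⟩, ⟨1, 1, 0, 0⟩, ⟨1, 1, 0, 0⟩, ⟨1, 1, 0, 1⟩, ⟨1, 1, 1, 2⟩] :=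
  refuted_of_chk tr3 (cs := [⟨0, 2, 4, 9⟩, ⟨1, 0, 0, 16⟩, ⟨1, 0, 0, 16⟩, ⟨1, 0, 1, 1⟩, ⟨1, 1, 2, 100⟩])
    (bs := [.both 13 51, .both 76 52, .both 76 52, .both 65 63, .both 38 90])
    (by decide +kernel) (by decide +kernel) (by decide +kernel)

def tr4 : Tr :=
    (s 4 (r 13) (s 5 (r 13) (s 2 (s 3 (s 932 (s 933 (s 1122 (s 1123 (s 7 (r 37) (s 6 (s 0 (r 11) (s 1 (r 11) (l 57)))
    (r 11))) (r 13)) (r 13)) (r 13)) (r 13)) (r 13)) (r 13))))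

theorem ref4 : Refuted false
    [⟨4, 0, 1, 1⟩, ⟨4, 0, 1, 1⟩, ⟨4, 0, 1, 0⟩, ⟨4, 0, 1, 0⟩, ⟨1, 1, 0, 0⟩, ⟨1, 1, 0, 0⟩, ⟨1, 1, 0, 1⟩, ⟨1, 1, 1, 2⟩] :=
  refuted_of_chk tr4 (cs := [⟨0, 1, 4, 1⟩, ⟨0, 1, 4, 1⟩, ⟨0, 1, 0, 16⟩, ⟨0, 1, 0, 16⟩, ⟨1, 0, 0, 16⟩, ⟨1, 0, 0, 16⟩, ⟨1, 0, 1, 1⟩, ⟨1, 1, 2, 100⟩])
    (bs := [.both 65 63, .both 65 63, .both 76 52, .both 76 52, .both 76 52, .both 76 52, .both 65 63, .both 38 90])
    (by decide +kernel) (by decide +kernel) (by decide +kernel)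

def tr5 : Tr :=
    (s 5 (r 37) (s 0 (s 616 (s 1 (s 617 (r 36) (s 2 (s 3 (r 13) (s 931 (s 1237 (s 1129 (s 4 (s 1122 (r 13) (l 63)) (s
    1634 (l 61) (r 11))) (l 67)) (r 37)) (r 13))) (s 930 (s 3 (s 1237 (s 1129 (s 4 (s 1123 (r 13) (l 63)) (s 1635 (l
    61) (r 11))) (l 67)) (r 37)) (s 931 (r 11) (s 1237 (s 1129 (r 11) (l 67)) (r 36)))) (s 3 (r 13) (s 931 (s 1237 (s
    1129 (r 11) (l 67)) (r 36)) (s 1237 (s 1129 (s 4 (s 2572 (l 61) (s 1442 (s 1443 (r 11) (s 3084 (l 61) (s 1955 (r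
    11) (s 3596 (l 61) (s 2467 (r 11) (r 13)))))) (s 3084 (l 61) (s 1443 (s 1954 (r 11) (s 3596 (l 61) (s 2466 (r 11)
    (r 13)))) (r 13))))) (l 61)) (l 67)) (r 37))))))) (l 57)) (s 1 (s 617 (s 2 (s 3 (r 13) (s 931 (s 1237 (s 1128 (s
    4 (s 1122 (r 13) (l 63)) (s 1634 (l 61) (r 11))) (l 67)) (r 37)) (r 13))) (s 930 (s 3 (s 1237 (s 1128 (s 4 (s
    1123 (r 13) (l 63)) (s 1635 (l 61) (r 11))) (l 67)) (r 37)) (s 931 (r 11) (s 1237 (s 1128 (r 11) (l 67)) (r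
    36)))) (s 3 (r 13) (s 931 (s 1237 (s 1128 (r 11) (l 67)) (r 36)) (s 1237 (s 1128 (s 4 (s 2572 (l 61) (s 1442 (s
    1443 (r 11) (s 3084 (l 61) (s 1955 (r 11) (s 3596 (l 61) (s 2467 (r 11) (r 13)))))) (s 3084 (l 61) (s 1443 (s
    1954 (r 11) (s 3596 (l 61) (s 2466 (r 11) (r 13)))) (r 13))))) (l 61)) (l 67)) (r 37)))))) (r 13)) (r 13))) (s 1
    (s 617 (l 57) (r 13)) (r 13))))

theorem ref5 : Refuted false
    [⟨2, 0, 1, 1⟩, ⟨2, 0, 1, 1⟩, ⟨1, 1, 0, 0⟩, ⟨1, 1, 0, 0⟩, ⟨1, 1, 0, 1⟩, ⟨1, 1, 1, 2⟩] :=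
  refuted_of_chk tr5 (cs := [⟨0, 1, 2, 9⟩, ⟨0, 1, 2, 9⟩, ⟨1, 0, 0, 16⟩, ⟨1, 0, 0, 16⟩, ⟨1, 0, 1, 1⟩, ⟨1, 1, 2, 100⟩])
    (bs := [.both 13 51, .both 13 51, .both 76 52, .both 76 52, .both 65 63, .both 38 90])
    (by decide +kernel) (by decide +kernel) (by decide +kernel)

def tr6 : Tr :=
    (s 1 (s 5 (r 37) (s 2 (s 3 (r 13) (s 0 (s 1237 (l 67) (r 37)) (s 1729 (l 57) (r 13)))) (s 3 (s 0 (s 1237 (l 67)
    (r 37)) (s 1729 (l 57) (r 13))) (s 0 (s 1237 (l 67) (s 4 (s 2060 (l 61) (s 1217 (r 36) (s 1749 (l 67) (s 2572 (l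
    61) (s 1729 (s 930 (s 931 (r 11) (r 37)) (r 37)) (r 13)))))) (l 61))) (s 1729 (l 57) (r 13)))))) (r 13))

theorem ref6 : Refuted false
    [⟨2, 0, 1, 2⟩, ⟨2, 0, 1, 0⟩, ⟨1, 1, 0, 0⟩, ⟨1, 1, 0, 0⟩, ⟨1, 1, 0, 1⟩, ⟨1, 1, 1, 2⟩] :=
  refuted_of_chk tr6 (cs := [⟨0, 1, 4, 4⟩, ⟨0, 1, 0, 64⟩, ⟨1, 0, 0, 16⟩, ⟨1, 0, 0, 16⟩, ⟨1, 0, 1, 1⟩, ⟨1, 1, 2, 100⟩])
    (bs := [.both 66 126, .both 88 40, .both 76 52, .both 76 52, .both 65 63, .both 38 90])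
    (by decide +kernel) (by decide +kernel) (by decide +kernel)

def tr7 : Tr :=
    (s 1 (s 0 (s 616 (r 36) (r 13)) (r 13)) (s 841 (r 11) (s 0 (s 616 (r 11) (s 1353 (s 1128 (s 4 (r 37) (s 2 (s 3 (s
    1748 (s 1236 (l 67) (s 2058 (s 2059 (r 13) (l 63)) (l 63))) (l 57)) (s 2058 (l 61) (r 11))) (s 3 (s 2059 (l 61)
    (r 11)) (r 11)))) (r 13)) (r 13))) (r 13))))

theorem ref7 : Refuted false
    [⟨4, 0, 2, 1⟩, ⟨1, 1, 0, -1⟩, ⟨1, 1, 0, 1⟩, ⟨1, 1, 0, 1⟩, ⟨1, 1, 1, 2⟩] :=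
  refuted_of_chk tr7 (cs := [⟨0, 2, 4, 9⟩, ⟨1, 0, -1, 81⟩, ⟨1, 0, 1, 1⟩, ⟨1, 0, 1, 1⟩, ⟨1, 1, 2, 100⟩])
    (bs := [.both 13 51, .both 87 41, .both 65 63, .both 65 63, .both 38 90])
    (by decide +kernel) (by decide +kernel) (by decide +kernel)

def tr8 : Tr :=
    (s 4 (r 13) (s 844 (r 11) (s 7 (r 37) (s 1239 (r 7) (r 18)))))

theorem ref8 : Refuted true
    [⟨4, 0, 1, 1⟩, ⟨4, 0, 1, 1⟩, ⟨4, 0, 1, 0⟩, ⟨4, 0, 1, 0⟩, ⟨1, 1, 0, -1⟩, ⟨1, 1, 0, 1⟩, ⟨1, 1, 0, 1⟩, ⟨1, 1, 1, 2⟩] :=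
  refuted_of_chk tr8 (cs := [⟨0, 1, 4, 1⟩, ⟨0, 1, 4, 1⟩, ⟨0, 1, 0, 16⟩, ⟨0, 1, 0, 16⟩, ⟨1, 0, -1, 81⟩, ⟨1, 0, 1, 1⟩, ⟨1, 0, 1, 1⟩, ⟨1, 1, 2, 100⟩])
    (bs := [.both 65 63, .both 65 63, .both 76 52, .both 76 52, .both 87 41, .both 65 63, .both 65 63, .both 38 90])
    (by decide +kernel) (by decide +kernel) (by decide +kernel)

def tr9 : Tr :=
    (s 2 (s 1210 (r 37) (s 5 (r 37) (s 0 (s 1 (s 1722 (r 37) (s 616 (s 617 (r 36) (r 13)) (r 13))) (r 13)) (r 13))))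
    (s 842 (r 11) (s 5 (r 37) (s 1354 (s 0 (s 1 (s 616 (r 11) (s 617 (r 11) (s 1237 (l 67) (s 1749 (s 1128 (s 1129 (s
    3 (s 4 (s 2059 (s 2060 (r 13) (l 63)) (l 63)) (s 2571 (l 61) (r 11))) (s 4 (s 2572 (l 61) (r 11)) (r 11))) (r
    13)) (r 13)) (s 2261 (s 1128 (s 1129 (l 57) (r 13)) (r 13)) (s 1128 (s 1129 (l 57) (r 13)) (r 13))))))) (s 616 (r
    11) (r 13))) (s 1 (s 617 (r 11) (r 13)) (r 13))) (s 0 (s 1 (s 616 (s 617 (r 11) (s 1866 (r 11) (s 2378 (r 11) (s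
    3402 (s 1237 (s 1129 (r 11) (l 67)) (r 37)) (s 1237 (s 4938 (s 1129 (s 3 (s 4 (r 13) (s 4619 (l 61) (s 3914 (s
    1020 (r 11) (s 5131 (l 61) (s 1532 (r 11) (s 5643 (l 61) (s 2044 (r 11) (s 6155 (l 61) (s 2556 (r 11) (s 6667 (l
    61) (s 3580 (r 11) (s 7691 (l 61) (s 5116 (r 11) (s 9227 (l 61) (s 7164 (r 11) (s 11275 (l 61) (s 10236 (s 14347
    (s 8700 (r 11) (s 12811 (l 61) (s 9212 (r 11) (s 13323 (l 61) (r 11))))) (r 11)) (s 14347 (r 13) (s 14844 (s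
    18955 (s 12284 (s 16395 (s 11260 (s 15371 (s 10748 (r 11) (r 13)) (r 11)) (r 13)) (l 63)) (r 13)) (l 63)) (s
    18955 (r 13) (s 22012 (s 26123 (s 17916 (s 22027 (r 13) (l 63)) (r 13)) (l 63)) (s 26123 (r 13) (s 32764 (s 36875
    (r 13) (l 63)) (s 36875 (r 13) (s 48636 (s 52747 (r 13) (l 63)) (r 13)))))))))))))))))))))))) (r 13)))) (s 4 (s
    4620 (l 61) (s 3914 (s 1019 (r 11) (s 5132 (l 61) (s 1531 (r 11) (s 5644 (l 61) (s 2043 (r 11) (s 6156 (l 61) (s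
    2555 (r 11) (s 6668 (l 61) (s 3579 (r 11) (s 7692 (l 61) (s 5115 (r 11) (s 9228 (l 61) (s 7163 (r 11) (s 11276 (l
    61) (s 10235 (s 14348 (s 8699 (r 11) (s 12812 (l 61) (s 9211 (r 11) (s 13324 (l 61) (r 11))))) (r 11)) (s 14348
    (r 13) (s 14843 (s 18956 (s 12283 (s 16396 (s 11259 (s 15372 (s 10747 (r 11) (r 13)) (r 11)) (r 13)) (l 63)) (r
    13)) (l 63)) (s 18956 (r 13) (s 22011 (s 26124 (s 17915 (s 22028 (r 13) (l 63)) (r 13)) (l 63)) (s 26124 (r 13)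
    (s 32763 (s 36876 (r 13) (l 63)) (s 36876 (r 13) (s 48635 (s 52748 (r 13) (l 63)) (r 13))))))))))))))))))))))))
    (r 13))) (l 61))) (r 13)) (r 13)) (r 37)))))) (s 617 (s 1866 (r 11) (s 2378 (r 11) (s 3402 (s 1237 (s 1128 (r 11)
    (l 67)) (r 37)) (s 1237 (s 4938 (s 1128 (s 3 (s 4 (r 13) (s 4619 (l 61) (s 3914 (s 1020 (r 11) (s 5131 (l 61) (s
    1532 (r 11) (s 5643 (l 61) (s 2044 (r 11) (s 6155 (l 61) (s 2556 (r 11) (s 6667 (l 61) (s 3580 (r 11) (s 7691 (l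
    61) (s 5116 (r 11) (s 9227 (l 61) (s 7164 (r 11) (s 11275 (l 61) (s 10236 (s 14347 (s 8700 (r 11) (s 12811 (l 61)
    (s 9212 (r 11) (s 13323 (l 61) (r 11))))) (r 11)) (s 14347 (r 13) (s 14844 (s 18955 (s 12284 (s 16395 (s 11260 (s
    15371 (s 10748 (r 11) (r 13)) (r 11)) (r 13)) (l 63)) (r 13)) (l 63)) (s 18955 (r 13) (s 22012 (s 26123 (s 17916
    (s 22027 (r 13) (l 63)) (r 13)) (l 63)) (s 26123 (r 13) (s 32764 (s 36875 (r 13) (l 63)) (s 36875 (r 13) (s 48636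
    (s 52747 (r 13) (l 63)) (r 13)))))))))))))))))))))))) (r 13)))) (s 4 (s 4620 (l 61) (s 3914 (s 1019 (r 11) (s
    5132 (l 61) (s 1531 (r 11) (s 5644 (l 61) (s 2043 (r 11) (s 6156 (l 61) (s 2555 (r 11) (s 6668 (l 61) (s 3579 (r
    11) (s 7692 (l 61) (s 5115 (r 11) (s 9228 (l 61) (s 7163 (r 11) (s 11276 (l 61) (s 10235 (s 14348 (s 8699 (r 11)
    (s 12812 (l 61) (s 9211 (r 11) (s 13324 (l 61) (r 11))))) (r 11)) (s 14348 (r 13) (s 14843 (s 18956 (s 12283 (s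
    16396 (s 11259 (s 15372 (s 10747 (r 11) (r 13)) (r 11)) (r 13)) (l 63)) (r 13)) (l 63)) (s 18956 (r 13) (s 22011
    (s 26124 (s 17915 (s 22028 (r 13) (l 63)) (r 13)) (l 63)) (s 26124 (r 13) (s 32763 (s 36876 (r 13) (l 63)) (s
    36876 (r 13) (s 48635 (s 52748 (r 13) (l 63)) (r 13)))))))))))))))))))))))) (r 13))) (l 61))) (r 13)) (r 13)) (r
    37))))) (r 13))) (s 616 (l 57) (r 13))) (s 1 (s 617 (l 57) (r 13)) (r 13)))))))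

theorem ref9 : Refuted false
    [⟨2, 0, 1, 1⟩, ⟨2, 0, 1, 1⟩, ⟨1, 1, 0, -1⟩, ⟨1, 1, 0, 1⟩, ⟨1, 1, 0, 1⟩, ⟨1, 1, 1, 2⟩] :=
  refuted_of_chk tr9 (cs := [⟨0, 1, 2, 9⟩, ⟨0, 1, 2, 9⟩, ⟨1, 0, -1, 81⟩, ⟨1, 0, 1, 1⟩, ⟨1, 0, 1, 1⟩, ⟨1, 1, 2, 100⟩])
    (bs := [.both 13 51, .both 13 51, .both 87 41, .both 65 63, .both 65 63, .both 38 90])
    (by decide +kernel) (by decide +kernel) (by decide +kernel)

def tr10 : Tr :=
    (s 2 (r 13) (s 5 (r 17) (s 842 (r 17) (s 1 (s 1354 (s 1237 (r 7) (r 17)) (s 1237 (r 7) (s 1217 (r 36) (r 13))))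
    (r 13)))))

theorem ref10 : Refuted true
    [⟨2, 0, 1, 2⟩, ⟨2, 0, 1, 0⟩, ⟨1, 1, 0, -1⟩, ⟨1, 1, 0, 1⟩, ⟨1, 1, 0, 1⟩, ⟨1, 1, 1, 2⟩] :=
  refuted_of_chk tr10 (cs := [⟨0, 1, 4, 4⟩, ⟨0, 1, 0, 64⟩, ⟨1, 0, -1, 81⟩, ⟨1, 0, 1, 1⟩, ⟨1, 0, 1, 1⟩, ⟨1, 1, 2, 100⟩])
    (bs := [.both 66 126, .both 88 40, .both 87 41, .both 65 63, .both 65 63, .both 38 90])
    (by decide +kernel) (by decide +kernel) (by decide +kernel)

def tr11 : Tr :=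
    (s 1 (s 0 (s 616 (r 36) (r 13)) (r 13)) (s 841 (s 0 (r 11) (s 3 (s 947 (s 2 (l 58) (s 930 (r 11) (s 920 (s 1442
    (r 11) (l 66)) (r 11)))) (r 11)) (r 11))) (s 0 (s 616 (r 36) (s 3 (s 1353 (s 947 (r 13) (s 2 (s 1459 (r 13) (s
    1128 (s 1122 (r 13) (l 58)) (r 13))) (s 2483 (l 66) (s 930 (s 1128 (r 11) (s 3507 (l 66) (s 1640 (r 11) (s 4531
    (l 66) (r 11))))) (s 2995 (l 66) (s 1128 (s 1442 (r 11) (s 3507 (r 13) (s 1954 (r 11) (s 4019 (r 13) (s 5555 (s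
    3490 (s 4 (r 37) (s 2772 (s 1748 (s 1236 (l 67) (s 2466 (s 4531 (r 13) (r 11)) (s 4531 (r 13) (s 2978 (s 5043 (r
    13) (l 63)) (r 13))))) (l 57)) (l 61))) (r 13)) (s 3490 (l 58) (s 8115 (s 6050 (s 4 (r 37) (s 3796 (s 1748 (s
    1236 (l 67) (s 6579 (r 13) (s 4514 (l 63) (r 13)))) (l 57)) (r 37))) (r 13)) (s 6050 (l 58) (s 4 (r 37) (s 1748
    (s 1236 (l 67) (s 11699 (s 9634 (s 9651 (r 13) (s 7586 (l 63) (r 13))) (r 13)) (s 9634 (l 63) (s 17331 (s 15266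
    (s 14259 (r 13) (s 12194 (l 63) (r 13))) (r 13)) (s 15266 (l 63) (s 25523 (s 23458 (s 20915 (r 13) (s 18850 (l
    63) (s 22963 (r 13) (s 20898 (l 63) (r 13))))) (r 13)) (s 23458 (l 63) (s 37811 (s 35746 (s 30643 (s 28578 (s
    28083 (s 26018 (s 26547 (r 13) (s 24482 (l 63) (r 13))) (r 13)) (s 26018 (l 63) (s 29107 (s 27042 (s 28595 (r 13)
    (s 26530 (r 11) (r 13))) (r 13)) (s 27042 (r 11) (s 29619 (s 27554 (r 11) (r 13)) (r 11)))))) (l 61)) (s 28578 (r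
    11) (s 33715 (s 31650 (s 32179 (s 30114 (r 11) (l 61)) (r 11)) (l 61)) (r 11)))) (l 61)) (s 35746 (r 11) (s 56243
    (s 54178 (s 45491 (s 43426 (r 11) (l 61)) (r 11)) (l 61)) (r 11))))))))))) (l 57))))))))))) (s 4019 (r 13) (s
    1442 (s 1640 (s 4531 (r 13) (l 58)) (r 13)) (r 13))))))))) (s 947 (r 13) (s 2 (r 13) (s 2995 (r 13) (s 1865 (s
    930 (s 1128 (s 3507 (r 13) (l 58)) (r 13)) (r 13)) (r 13)))))) (s 1353 (s 2 (s 3170 (l 66) (s 1619 (s 1128 (r 11)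
    (s 4194 (l 66) (r 11))) (s 3682 (l 66) (s 1128 (s 2131 (r 11) (s 4194 (l 66) (s 3155 (r 11) (s 5218 (l 66) (s
    4691 (r 11) (s 6754 (l 66) (s 6739 (r 11) (s 8802 (l 66) (s 9811 (r 11) (s 11874 (l 66) (s 4 (r 37) (s 1748 (s
    1236 (l 67) (s 14419 (r 11) (s 16482 (l 61) (s 21587 (r 11) (s 23650 (l 61) (s 32339 (r 11) (s 34402 (l 61) (r
    11)))))))) (l 57))))))))))))) (s 4706 (l 66) (s 2131 (s 1640 (r 11) (s 5730 (l 66) (s 2152 (r 11) (s 6754 (r 13)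
    (s 3176 (s 8290 (s 4 (r 37) (s 5844 (s 4308 (l 67) (s 2664 (s 4820 (s 7266 (r 13) (l 63)) (l 57)) (r 13))) (l
    61))) (l 58)) (r 13)))))) (s 5218 (l 66) (s 3155 (s 1640 (s 6242 (s 4 (r 37) (s 3284 (s 2772 (s 2260 (l 67) (s
    2643 (r 11) (r 13))) (l 57)) (l 61))) (l 58)) (r 13)) (r 13))))))))) (l 66)) (s 2 (r 13) (l 66))))) (s 3 (s 1353
    (s 947 (r 13) (s 2 (r 13) (s 930 (l 58) (r 13)))) (r 13)) (s 1353 (s 2 (s 920 (r 13) (s 1619 (l 58) (r 13))) (s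
    1432 (l 66) (s 930 (s 1619 (r 11) (s 2131 (r 11) (s 1944 (l 66) (r 11)))) (s 1619 (s 1442 (r 11) (s 1944 (l 66)
    (s 1954 (r 11) (s 2456 (s 2466 (r 11) (l 66)) (s 2978 (r 11) (s 3480 (s 4514 (r 11) (l 66)) (s 5026 (r 11) (s
    5016 (s 7586 (r 11) (l 66)) (r 11))))))))) (s 1944 (r 13) (s 2131 (s 1442 (r 11) (s 1954 (s 2456 (r 13) (l 58))
    (s 2456 (r 13) (s 2466 (l 58) (s 3480 (r 13) (s 4514 (l 58) (r 13))))))) (s 1442 (s 3155 (s 2456 (r 13) (l 58))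
    (s 2456 (r 13) (s 4691 (s 3480 (r 13) (l 58)) (r 13)))) (r 13)))))))) (s 2 (r 13) (s 1432 (r 13) (s 1865 (s 930
    (s 1619 (s 1944 (r 13) (l 58)) (r 13)) (r 13)) (r 13)))))))))

theorem ref11 : Refuted false
    [⟨4, 0, 2, 1⟩, ⟨1, 1, 0, -1⟩, ⟨1, 1, 0, 0⟩, ⟨1, 1, 0, 2⟩, ⟨1, 1, 1, 2⟩] :=
  refuted_of_chk tr11 (cs := [⟨0, 2, 4, 9⟩, ⟨1, 0, -1, 81⟩, ⟨1, 0, 0, 16⟩, ⟨1, 0, 2, 36⟩, ⟨1, 1, 2, 100⟩])
    (bs := [.both 13 51, .both 87 41, .both 76 52, .both 54 138, .both 38 90])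
    (by decide +kernel) (by decide +kernel) (by decide +kernel)

def tr12 : Tr :=
    (s 2 (s 4 (s 5 (r 37) (s 0 (s 1 (s 3 (s 1749 (l 63) (r 37)) (s 1210 (r 37) (s 948 (r 37) (s 1722 (r 37) (s 616 (s
    617 (r 36) (s 2234 (r 13) (s 931 (s 2773 (l 63) (r 37)) (r 13)))) (s 617 (s 2234 (r 13) (s 931 (s 2773 (l 63) (r
    37)) (r 13))) (r 13))))))) (s 1128 (l 57) (r 13))) (s 1 (s 1129 (l 57) (r 13)) (r 13)))) (s 5 (r 37) (s 0 (s 1 (s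
    3 (s 1210 (r 37) (s 1722 (r 37) (s 616 (s 617 (r 36) (s 2234 (r 37) (s 3258 (r 13) (s 1620 (s 2773 (l 63) (r 37))
    (r 13))))) (s 617 (s 2234 (r 37) (s 3258 (r 13) (s 1620 (s 2773 (l 63) (r 37)) (r 13)))) (r 13))))) (s 2234 (l
    61) (s 616 (s 617 (r 11) (s 931 (s 3258 (s 2132 (s 1749 (s 1641 (s 1237 (s 1129 (r 11) (l 67)) (r 37)) (l 67)) (r
    37)) (l 61)) (s 1620 (r 11) (s 1237 (s 1129 (s 2132 (r 11) (s 4794 (s 3668 (r 11) (l 61)) (s 3668 (r 11) (s 6842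
    (s 5716 (r 11) (l 61)) (r 11))))) (l 67)) (r 36)))) (s 2746 (r 13) (s 1620 (s 1237 (s 1129 (s 3770 (s 1955 (s
    1443 (s 3258 (r 13) (r 11)) (r 13)) (r 13)) (s 1955 (l 63) (s 5306 (s 3491 (s 4282 (r 13) (s 2467 (l 63) (r 13)))
    (r 13)) (s 3491 (l 63) (s 7866 (s 6051 (s 6330 (r 13) (s 4515 (l 63) (s 6842 (r 13) (s 5027 (r 11) (s 7354 (s
    5539 (r 11) (r 13)) (r 11)))))) (l 61)) (s 6051 (r 11) (s 11450 (s 9635 (r 11) (l 61)) (r 11)))))))) (l 67)) (r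
    36)) (s 3258 (r 13) (s 1237 (s 1129 (s 4794 (r 13) (s 2132 (s 2467 (l 63) (s 6842 (r 13) (s 4515 (l 63) (s 9914
    (r 13) (s 7587 (l 63) (s 14522 (r 13) (s 12195 (l 63) (r 13)))))))) (s 1443 (s 3156 (l 63) (s 6842 (r 13) (s 5204
    (l 63) (s 9914 (r 13) (s 8276 (l 63) (r 13)))))) (s 3156 (s 6842 (r 13) (s 3491 (l 63) (r 13))) (r 13))))) (l
    67)) (r 37))))))) (s 617 (s 931 (s 3258 (s 2132 (s 1749 (s 1640 (s 1237 (s 1128 (r 11) (l 67)) (r 37)) (l 67)) (r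
    37)) (l 61)) (s 1620 (r 11) (s 1237 (s 1128 (s 2132 (r 11) (s 4794 (s 3668 (r 11) (l 61)) (s 3668 (r 11) (s 6842
    (s 5716 (r 11) (l 61)) (r 11))))) (l 67)) (r 36)))) (s 2746 (r 13) (s 1620 (s 1237 (s 1128 (s 3770 (s 1955 (s
    1443 (s 3258 (r 13) (r 11)) (r 13)) (r 13)) (s 1955 (l 63) (s 5306 (s 3491 (s 4282 (r 13) (s 2467 (l 63) (r 13)))
    (r 13)) (s 3491 (l 63) (s 7866 (s 6051 (s 6330 (r 13) (s 4515 (l 63) (s 6842 (r 13) (s 5027 (r 11) (s 7354 (s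
    5539 (r 11) (r 13)) (r 11)))))) (l 61)) (s 6051 (r 11) (s 11450 (s 9635 (r 11) (l 61)) (r 11)))))))) (l 67)) (r
    36)) (s 3258 (r 13) (s 1237 (s 1128 (s 4794 (r 13) (s 2132 (s 2467 (l 63) (s 6842 (r 13) (s 4515 (l 63) (s 9914
    (r 13) (s 7587 (l 63) (s 14522 (r 13) (s 12195 (l 63) (r 13)))))))) (s 1443 (s 3156 (l 63) (s 6842 (r 13) (s 5204
    (l 63) (s 9914 (r 13) (s 8276 (l 63) (r 13)))))) (s 3156 (s 6842 (r 13) (s 3491 (l 63) (r 13))) (r 13))))) (l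
    67)) (r 37)))))) (r 13))))) (s 1128 (l 57) (r 13))) (s 1 (s 1129 (l 57) (r 13)) (r 13))))) (s 4 (s 5 (s 0 (s 1 (l
    67) (s 842 (s 3 (l 63) (r 11)) (s 3 (r 37) (s 1354 (s 948 (r 37) (s 821 (r 37) (s 921 (l 67) (s 931 (l 63) (r
    37))))) (r 37))))) (s 1 (s 842 (s 3 (l 63) (r 11)) (s 3 (r 37) (s 1354 (s 948 (r 37) (s 821 (r 37) (s 920 (l 67)
    (s 931 (l 63) (r 37))))) (r 37)))) (s 821 (r 37) (s 842 (s 3 (l 63) (s 931 (r 11) (s 948 (s 1333 (r 37) (s 1443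
    (r 11) (s 1845 (r 37) (s 1955 (r 11) (s 920 (s 1433 (l 67) (r 11)) (r 11)))))) (r 11)))) (s 3 (r 37) (s 1354 (s
    948 (r 37) (s 931 (l 63) (r 37))) (r 37))))))) (s 0 (s 1 (s 842 (r 11) (s 3 (s 1354 (s 948 (s 1123 (l 61) (s 616
    (s 617 (r 11) (r 13)) (r 13))) (s 616 (s 617 (r 11) (s 1460 (s 1237 (s 1129 (r 11) (l 67)) (r 36)) (r 11))) (s
    617 (s 1460 (s 1237 (s 1128 (r 11) (l 67)) (r 36)) (r 11)) (s 1237 (l 67) (s 1460 (r 13) (s 1123 (r 13) (s 1749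
    (l 63) (s 1972 (r 13) (s 2261 (l 63) (s 2484 (r 37) (s 2773 (l 63) (s 3508 (r 37) (s 3797 (l 63) (r
    37)))))))))))))) (s 948 (r 37) (s 616 (s 617 (r 36) (s 1866 (s 1460 (r 13) (s 1237 (s 1129 (s 1123 (s 1972 (r 13)
    (l 63)) (l 63)) (l 67)) (r 36))) (s 2378 (s 1460 (r 13) (s 1237 (s 1129 (s 1635 (s 2484 (r 13) (l 63)) (l 63)) (l
    67)) (r 37))) (s 1460 (r 13) (s 3402 (s 1237 (s 1129 (s 2659 (s 3508 (r 13) (l 63)) (l 63)) (l 67)) (r 37)) (r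
    13)))))) (s 617 (s 1866 (s 1460 (r 13) (s 1237 (s 1128 (s 1123 (s 1972 (r 13) (l 63)) (l 63)) (l 67)) (r 36))) (s
    2378 (s 1460 (r 13) (s 1237 (s 1128 (s 1635 (s 2484 (r 13) (l 63)) (l 63)) (l 67)) (r 37))) (s 1460 (r 13) (s
    3402 (s 1237 (s 1128 (s 2659 (s 3508 (r 13) (l 63)) (l 63)) (l 67)) (r 37)) (r 13))))) (r 13))))) (s 1972 (l 61)
    (s 1354 (s 616 (r 11) (s 617 (r 11) (s 1237 (l 67) (s 2484 (l 61) (s 931 (s 1749 (s 1128 (r 11) (l 67)) (s 2996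
    (l 61) (s 2261 (s 1640 (r 11) (l 67)) (s 3508 (l 61) (s 1128 (r 11) (s 1129 (r 11) (s 5044 (s 3797 (s 2664 (r 11)
    (l 67)) (l 61)) (r 11)))))))) (s 2996 (l 61) (s 1749 (s 1128 (s 1129 (s 1443 (r 11) (s 3508 (r 13) (s 1955 (r 11)
    (s 4020 (r 13) (s 5556 (s 3491 (s 2467 (s 4532 (r 13) (r 11)) (s 4532 (r 13) (s 2979 (s 5044 (r 13) (l 63)) (r
    13)))) (r 13)) (s 3491 (l 63) (s 8116 (s 6051 (s 6580 (r 13) (s 4515 (l 63) (r 13))) (r 13)) (s 6051 (l 63) (s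
    11700 (s 9635 (s 9652 (r 13) (s 7587 (l 63) (r 13))) (r 13)) (s 9635 (l 63) (s 17332 (s 15267 (s 14260 (r 13) (s
    12195 (l 63) (r 13))) (r 13)) (s 15267 (l 63) (s 25524 (s 23459 (s 20916 (r 13) (s 18851 (l 63) (s 22964 (r 13)
    (s 20899 (l 63) (r 13))))) (r 13)) (s 23459 (l 63) (s 37812 (s 35747 (s 30644 (s 28579 (s 28084 (s 26019 (s 26548
    (r 13) (s 24483 (l 63) (r 13))) (r 13)) (s 26019 (l 63) (s 29108 (s 27043 (s 28596 (r 13) (s 26531 (r 11) (r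
    13))) (r 13)) (s 27043 (r 11) (s 29620 (s 27555 (r 11) (r 13)) (r 11)))))) (l 61)) (s 28579 (r 11) (s 33716 (s
    31651 (s 32180 (s 30115 (r 11) (l 61)) (r 11)) (l 61)) (r 11)))) (l 61)) (s 35747 (r 11) (s 56244 (s 54179 (s
    45492 (s 43427 (r 11) (l 61)) (r 11)) (l 61)) (r 11)))))))))))))))))) (l 67)) (l 67)) (s 3508 (l 61) (s 1443 (s
    2261 (s 1640 (s 1641 (s 4020 (s 1128 (r 11) (s 1129 (r 11) (r 13))) (l 63)) (l 67)) (l 67)) (s 4020 (l 61) (s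
    1128 (s 1641 (r 11) (s 3285 (s 2665 (s 5044 (s 2773 (s 2153 (s 4532 (r 13) (r 11)) (r 13)) (s 4532 (r 13) (s 2153
    (r 11) (r 13)))) (r 11)) (l 67)) (s 5044 (l 61) (s 2665 (r 11) (s 7092 (s 5333 (s 4713 (s 4309 (s 3689 (s 6068 (s
    3797 (s 3177 (s 5556 (r 13) (r 11)) (r 13)) (s 5556 (r 13) (s 3177 (r 11) (r 13)))) (r 11)) (l 67)) (s 6068 (l
    61) (s 3689 (r 11) (s 4821 (s 4201 (s 6580 (r 13) (r 11)) (r 13)) (s 6580 (r 13) (s 4201 (r 11) (r 13))))))) (r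
    13)) (l 61)) (s 5333 (l 63) (s 4713 (r 11) (s 10164 (s 8405 (s 7785 (s 6869 (s 6249 (s 8628 (s 5845 (s 5225 (r
    11) (l 67)) (s 7604 (l 61) (r 11))) (r 11)) (l 67)) (r 37)) (l 67)) (r 37)) (s 8405 (l 63) (r 36)))))))))) (s
    1129 (s 1640 (r 11) (s 3285 (s 2664 (s 5044 (s 2773 (s 2152 (s 4532 (r 13) (r 11)) (r 13)) (s 4532 (r 13) (s 2152
    (r 11) (r 13)))) (r 11)) (l 67)) (s 5044 (l 61) (s 2664 (r 11) (s 7092 (s 5333 (s 4712 (s 4309 (s 3688 (s 6068 (s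
    3797 (s 3176 (s 5556 (r 13) (r 11)) (r 13)) (s 5556 (r 13) (s 3176 (r 11) (r 13)))) (r 11)) (l 67)) (s 6068 (l
    61) (s 3688 (r 11) (s 4821 (s 4200 (s 6580 (r 13) (r 11)) (r 13)) (s 6580 (r 13) (s 4200 (r 11) (r 13))))))) (r
    13)) (l 61)) (s 5333 (l 63) (s 4712 (r 11) (s 10164 (s 8405 (s 7784 (s 6869 (s 6248 (s 8628 (s 5845 (s 5224 (r
    11) (l 67)) (s 7604 (l 61) (r 11))) (r 11)) (l 67)) (r 37)) (l 67)) (r 37)) (s 8405 (l 63) (r 36)))))))))) (s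
    3285 (s 2152 (s 2153 (s 5044 (r 13) (l 63)) (l 67)) (l 67)) (s 5044 (r 13) (s 7092 (r 13) (s 5333 (l 63) (s 1640
    (s 4201 (l 57) (r 13)) (s 1641 (s 4200 (l 57) (r 13)) (r 13))))))))))) (s 4020 (l 61) (s 2261 (s 1640 (s 1641 (s
    1955 (s 4532 (s 1128 (s 1129 (r 11) (r 13)) (r 13)) (l 63)) (s 4532 (r 13) (s 2467 (s 5044 (s 1128 (s 1129 (r 11)
    (r 13)) (r 13)) (l 63)) (s 5044 (r 13) (s 7092 (s 4515 (s 1128 (s 1129 (l 57) (r 13)) (r 13)) (r 13)) (s 4515 (l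
    63) (s 1128 (s 1129 (l 57) (r 13)) (r 13)))))))) (l 67)) (l 67)) (s 4532 (l 61) (s 1128 (s 1641 (l 57) (s 1955 (s
    3285 (s 2665 (s 5556 (r 13) (l 63)) (l 67)) (s 5556 (r 13) (s 2665 (l 57) (s 4821 (s 4201 (s 7092 (r 13) (l 63))
    (r 13)) (s 7092 (r 37) (s 4201 (l 57) (r 13))))))) (r 13))) (s 1129 (s 1640 (l 57) (s 1955 (s 3285 (s 2664 (s
    5556 (r 13) (l 63)) (l 67)) (s 5556 (r 13) (s 2664 (l 57) (s 4821 (s 4200 (s 7092 (r 13) (l 63)) (r 13)) (s 7092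
    (r 37) (s 4200 (l 57) (r 13))))))) (r 13))) (r 13))))))))))))))) (s 2484 (l 61) (s 616 (s 617 (r 11) (s 1866 (r
    11) (s 2996 (l 61) (s 2378 (s 931 (r 11) (s 3508 (l 61) (s 1237 (s 1129 (r 11) (l 67)) (r 36)))) (s 3508 (l 61)
    (s 931 (s 3402 (r 11) (s 4532 (l 61) (s 1237 (s 1129 (r 11) (l 67)) (r 36)))) (s 4020 (l 61) (s 3402 (s 1237 (s
    1129 (s 1443 (r 11) (s 4532 (l 61) (s 1955 (r 11) (s 5044 (l 61) (s 2467 (r 11) (s 5556 (l 61) (s 3491 (r 11) (s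
    6580 (l 61) (s 2890 (r 11) (s 7092 (l 61) (s 10164 (s 6563 (r 11) (l 61)) (r 11)))))))))))) (l 67)) (r 36)) (s
    5044 (l 61) (s 1237 (s 1129 (s 4938 (s 1443 (r 11) (s 5556 (l 61) (s 1955 (s 7092 (s 3914 (r 11) (s 6068 (l 61)
    (s 4426 (r 11) (s 6580 (r 13) (r 11))))) (r 11)) (s 6068 (l 61) (s 2467 (s 7604 (s 3914 (r 11) (r 13)) (l 63)) (s
    6580 (l 61) (s 3491 (s 8628 (s 3914 (s 7604 (s 2979 (r 11) (s 7092 (r 13) (r 11))) (r 11)) (r 13)) (l 63)) (s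
    7604 (r 13) (s 3914 (s 11188 (s 7075 (s 5027 (s 9140 (s 4003 (s 8116 (r 13) (r 11)) (r 13)) (l 63)) (r 13)) (r
    13)) (s 7075 (l 63) (s 16308 (r 13) (s 12195 (l 63) (s 23988 (r 13) (s 19875 (l 63) (s 35764 (r 13) (s 31651 (l
    63) (s 53172 (r 13) (s 49059 (l 63) (s 79284 (r 13) (s 75171 (l 63) (s 118708 (r 13) (s 114595 (l 63) (s 177588
    (r 13) (s 173475 (l 63) (s 266164 (r 13) (s 262051 (l 63) (s 398772 (r 13) (s 394659 (l 63) (s 597940 (r 13) (s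
    593827 (l 63) (r 13))))))))))))))))))))))) (s 8116 (r 13) (s 5027 (s 10164 (r 13) (l 63)) (s 9652 (r 13) (s 14260
    (r 13) (s 9123 (l 63) (r 13))))))))))))))) (s 6580 (l 61) (s 1443 (s 6986 (r 11) (s 8628 (l 61) (s 10058 (s 11700
    (s 8522 (s 10164 (s 7498 (r 11) (s 9140 (l 61) (s 8010 (r 11) (r 13)))) (l 63)) (r 13)) (l 63)) (s 11700 (r 13)
    (s 14666 (s 16308 (r 13) (l 63)) (r 13)))))) (s 7092 (r 13) (s 6986 (s 1955 (s 9140 (r 13) (l 63)) (s 7604 (r 13)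
    (s 2467 (s 9652 (r 13) (l 63)) (r 13)))) (r 13)))))) (l 67)) (r 37))))))))))) (s 617 (s 1866 (r 11) (s 2996 (l
    61) (s 2378 (s 931 (r 11) (s 3508 (l 61) (s 1237 (s 1128 (r 11) (l 67)) (r 36)))) (s 3508 (l 61) (s 931 (s 3402
    (r 11) (s 4532 (l 61) (s 1237 (s 1128 (r 11) (l 67)) (r 36)))) (s 4020 (l 61) (s 3402 (s 1237 (s 1128 (s 1443 (r
    11) (s 4532 (l 61) (s 1955 (r 11) (s 5044 (l 61) (s 2467 (r 11) (s 5556 (l 61) (s 3491 (r 11) (s 6580 (l 61) (s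
    2890 (r 11) (s 7092 (l 61) (s 10164 (s 6563 (r 11) (l 61)) (r 11)))))))))))) (l 67)) (r 36)) (s 5044 (l 61) (s
    1237 (s 1128 (s 4938 (s 1443 (r 11) (s 5556 (l 61) (s 1955 (s 7092 (s 3914 (r 11) (s 6068 (l 61) (s 4426 (r 11)
    (s 6580 (r 13) (r 11))))) (r 11)) (s 6068 (l 61) (s 2467 (s 7604 (s 3914 (r 11) (r 13)) (l 63)) (s 6580 (l 61) (s
    3491 (s 8628 (s 3914 (s 7604 (s 2979 (r 11) (s 7092 (r 13) (r 11))) (r 11)) (r 13)) (l 63)) (s 7604 (r 13) (s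
    3914 (s 11188 (s 7075 (s 5027 (s 9140 (s 4003 (s 8116 (r 13) (r 11)) (r 13)) (l 63)) (r 13)) (r 13)) (s 7075 (l
    63) (s 16308 (r 13) (s 12195 (l 63) (s 23988 (r 13) (s 19875 (l 63) (s 35764 (r 13) (s 31651 (l 63) (s 53172 (r
    13) (s 49059 (l 63) (s 79284 (r 13) (s 75171 (l 63) (s 118708 (r 13) (s 114595 (l 63) (s 177588 (r 13) (s 173475
    (l 63) (s 266164 (r 13) (s 262051 (l 63) (s 398772 (r 13) (s 394659 (l 63) (s 597940 (r 13) (s 593827 (l 63) (r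
    13))))))))))))))))))))))) (s 8116 (r 13) (s 5027 (s 10164 (r 13) (l 63)) (s 9652 (r 13) (s 14260 (r 13) (s 9123
    (l 63) (r 13))))))))))))))) (s 6580 (l 61) (s 1443 (s 6986 (r 11) (s 8628 (l 61) (s 10058 (s 11700 (s 8522 (s
    10164 (s 7498 (r 11) (s 9140 (l 61) (s 8010 (r 11) (r 13)))) (l 63)) (r 13)) (l 63)) (s 11700 (r 13) (s 14666 (s
    16308 (r 13) (l 63)) (r 13)))))) (s 7092 (r 13) (s 6986 (s 1955 (s 9140 (r 13) (l 63)) (s 7604 (r 13) (s 2467 (s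
    9652 (r 13) (l 63)) (r 13)))) (r 13)))))) (l 67)) (r 37)))))))))) (s 1237 (l 67) (s 2996 (r 13) (s 1866 (s 931 (s
    1749 (s 1128 (s 1129 (s 3508 (r 13) (l 63)) (r 13)) (r 13)) (s 3508 (r 13) (s 2261 (s 1640 (s 1641 (s 4020 (r 13)
    (l 63)) (r 13)) (r 13)) (s 4020 (r 13) (s 1128 (s 1641 (l 57) (r 13)) (r 13)))))) (r 13)) (r 13))))))))))) (s
    1128 (l 57) (s 842 (s 3 (s 948 (s 1237 (s 1123 (s 921 (r 13) (r 11)) (r 11)) (s 1123 (l 61) (r 11))) (r 11)) (r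
    11)) (s 3 (r 13) (s 1972 (r 13) (s 1354 (s 931 (s 1237 (s 2484 (r 13) (l 63)) (s 2484 (r 13) (s 1640 (l 57) (s
    1749 (s 2996 (s 921 (r 13) (s 2152 (l 57) (r 13))) (l 63)) (s 2996 (l 61) (s 2152 (l 57) (s 921 (r 13) (s 2664 (l
    57) (s 2261 (s 3508 (s 1433 (r 13) (s 3176 (l 57) (s 1945 (r 13) (s 3688 (l 57) (s 2457 (r 13) (s 4200 (l 57) (s
    3481 (r 13) (s 5224 (l 57) (r 13))))))))) (l 63)) (s 3508 (l 61) (s 3176 (l 57) (s 5044 (s 3797 (s 1433 (r 13) (s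
    3688 (l 57) (s 1945 (r 13) (s 4200 (l 57) (s 2457 (r 13) (s 4712 (l 57) (s 2773 (s 4020 (s 3481 (r 13) (s 5736 (l
    57) (s 5017 (r 13) (s 7272 (l 57) (s 7065 (r 13) (s 9320 (l 57) (s 10137 (r 13) (s 12392 (l 57) (s 14745 (r 13)
    (s 17000 (l 57) (s 21913 (r 13) (s 24168 (l 57) (r 13))))))))))))) (l 63)) (s 4020 (l 61) (s 5224 (l 57) (s 3481
    (s 6760 (s 3285 (s 6248 (s 4532 (r 13) (l 63)) (l 67)) (s 4532 (r 13) (s 5736 (l 57) (s 2969 (r 13) (r 11))))) (l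
    67)) (s 6248 (l 57) (s 5017 (s 8296 (s 3285 (s 7784 (s 4532 (s 3993 (r 13) (s 6760 (r 11) (s 4505 (s 7272 (r 11)
    (r 13)) (r 11)))) (r 11)) (l 67)) (s 4532 (l 61) (r 11))) (l 67)) (s 7784 (r 11) (s 7065 (s 10344 (r 11) (l 67))
    (s 9832 (r 11) (s 3285 (s 4532 (s 10137 (s 12904 (r 11) (l 67)) (r 11)) (r 11)) (s 4532 (l 61) (r
    11)))))))))))))))))) (l 61)) (s 3797 (l 63) (s 4712 (l 57) (s 1433 (s 7092 (r 13) (s 5845 (l 63) (s 6760 (l 57)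
    (s 10164 (r 13) (s 8917 (l 63) (s 9832 (l 57) (s 14772 (r 13) (s 13525 (l 63) (s 14440 (l 57) (s 21940 (r 13) (s
    20693 (l 63) (s 21608 (l 57) (s 32692 (r 13) (s 31445 (l 63) (s 32360 (l 57) (s 48564 (r 13) (s 47317 (l 63) (s
    48232 (l 57) (s 72628 (r 13) (s 71381 (l 63) (s 72296 (l 57) (s 108468 (r 13) (s 107221 (l 63) (s 108136 (l 57)
    (s 162228 (r 13) (s 160981 (l 63) (s 161896 (l 57) (s 243124 (s 241877 (s 242792 (s 194484 (r 13) (s 193237 (l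
    63) (s 194152 (l 57) (s 215988 (r 13) (s 214741 (l 63) (s 215656 (l 57) (s 228788 (r 13) (s 227541 (l 63) (s
    228456 (l 57) (r 13)))))))))) (r 13)) (l 61)) (s 241877 (l 63) (s 242792 (l 57) (s 364468 (s 363221 (s 364136 (s
    291764 (s 290517 (s 291432 (s 265140 (s 263893 (s 264808 (s 253876 (s 252629 (s 253544 (s 248244 (r 13) (s 246997
    (l 63) (s 247912 (l 57) (s 250804 (r 13) (s 249557 (l 63) (s 250472 (l 57) (s 252340 (s 251093 (s 252008 (s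
    251316 (r 13) (r 11)) (l 67)) (l 61)) (r 11)))))))) (l 67)) (l 61)) (s 252629 (l 63) (s 253544 (r 11) (s 259508
    (s 258261 (s 259176 (r 11) (l 67)) (l 61)) (r 11))))) (l 67)) (l 61)) (r 11)) (l 67)) (l 61)) (r 11)) (l 67)) (l
    61)) (r 11)))))))))))))))))))))))))))))))) (s 5224 (l 57) (s 7092 (s 5845 (s 1945 (r 13) (s 5736 (l 57) (s 2457
    (s 7784 (s 4821 (s 6760 (s 6068 (s 4309 (s 6248 (s 5556 (r 13) (r 11)) (l 67)) (s 5556 (r 13) (r 11))) (r 11)) (l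
    67)) (s 6068 (l 61) (r 11))) (l 67)) (s 6248 (r 11) (s 3481 (s 8808 (r 11) (l 67)) (r 11)))))) (l 61)) (s 5845 (l
    63) (s 7272 (l 57) (s 10164 (s 8917 (s 1945 (s 10344 (s 8628 (s 7381 (s 8808 (s 7604 (r 13) (s 6357 (l 63) (s
    7784 (r 11) (s 8116 (s 6869 (s 8296 (r 11) (r 13)) (l 61)) (r 11))))) (l 67)) (l 61)) (r 11)) (l 67)) (r 11)) (l
    61)) (r 11))))))))))))))))))))) (r 13)) (r 13))))))) (s 1 (s 1129 (l 57) (s 842 (s 3 (s 948 (s 1237 (s 1123 (s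
    920 (r 13) (r 11)) (r 11)) (s 1123 (l 61) (r 11))) (r 11)) (r 11)) (s 3 (r 13) (s 1972 (r 13) (s 1354 (s 931 (s
    1237 (s 2484 (r 13) (l 63)) (s 2484 (r 13) (s 1641 (l 57) (s 1749 (s 2996 (s 920 (r 13) (s 2153 (l 57) (r 13)))
    (l 63)) (s 2996 (l 61) (s 2153 (l 57) (s 920 (r 13) (s 2665 (l 57) (s 2261 (s 3508 (s 1432 (r 13) (s 3177 (l 57)
    (s 1944 (r 13) (s 3689 (l 57) (s 2456 (r 13) (s 4201 (l 57) (s 3480 (r 13) (s 5225 (l 57) (r 13))))))))) (l 63))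
    (s 3508 (l 61) (s 3177 (l 57) (s 5044 (s 3797 (s 1432 (r 13) (s 3689 (l 57) (s 1944 (r 13) (s 4201 (l 57) (s 2456
    (r 13) (s 4713 (l 57) (s 2773 (s 4020 (s 3480 (r 13) (s 5737 (l 57) (s 5016 (r 13) (s 7273 (l 57) (s 7064 (r 13)
    (s 9321 (l 57) (s 10136 (r 13) (s 12393 (l 57) (s 14744 (r 13) (s 17001 (l 57) (s 21912 (r 13) (s 24169 (l 57) (r
    13))))))))))))) (l 63)) (s 4020 (l 61) (s 5225 (l 57) (s 3480 (s 6761 (s 3285 (s 6249 (s 4532 (r 13) (l 63)) (l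
    67)) (s 4532 (r 13) (s 5737 (l 57) (s 2968 (r 13) (r 11))))) (l 67)) (s 6249 (l 57) (s 5016 (s 8297 (s 3285 (s
    7785 (s 4532 (s 3992 (r 13) (s 6761 (r 11) (s 4504 (s 7273 (r 11) (r 13)) (r 11)))) (r 11)) (l 67)) (s 4532 (l
    61) (r 11))) (l 67)) (s 7785 (r 11) (s 7064 (s 10345 (r 11) (l 67)) (s 9833 (r 11) (s 3285 (s 4532 (s 10136 (s
    12905 (r 11) (l 67)) (r 11)) (r 11)) (s 4532 (l 61) (r 11)))))))))))))))))) (l 61)) (s 3797 (l 63) (s 4713 (l 57)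
    (s 1432 (s 7092 (r 13) (s 5845 (l 63) (s 6761 (l 57) (s 10164 (r 13) (s 8917 (l 63) (s 9833 (l 57) (s 14772 (r
    13) (s 13525 (l 63) (s 14441 (l 57) (s 21940 (r 13) (s 20693 (l 63) (s 21609 (l 57) (s 32692 (r 13) (s 31445 (l
    63) (s 32361 (l 57) (s 48564 (r 13) (s 47317 (l 63) (s 48233 (l 57) (s 72628 (r 13) (s 71381 (l 63) (s 72297 (l
    57) (s 108468 (r 13) (s 107221 (l 63) (s 108137 (l 57) (s 162228 (r 13) (s 160981 (l 63) (s 161897 (l 57) (s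
    243124 (s 241877 (s 242793 (s 194484 (r 13) (s 193237 (l 63) (s 194153 (l 57) (s 215988 (r 13) (s 214741 (l 63)
    (s 215657 (l 57) (s 228788 (r 13) (s 227541 (l 63) (s 228457 (l 57) (r 13)))))))))) (r 13)) (l 61)) (s 241877 (l
    63) (s 242793 (l 57) (s 364468 (s 363221 (s 364137 (s 291764 (s 290517 (s 291433 (s 265140 (s 263893 (s 264809 (s
    253876 (s 252629 (s 253545 (s 248244 (r 13) (s 246997 (l 63) (s 247913 (l 57) (s 250804 (r 13) (s 249557 (l 63)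
    (s 250473 (l 57) (s 252340 (s 251093 (s 252009 (s 251316 (r 13) (r 11)) (l 67)) (l 61)) (r 11)))))))) (l 67)) (l
    61)) (s 252629 (l 63) (s 253545 (r 11) (s 259508 (s 258261 (s 259177 (r 11) (l 67)) (l 61)) (r 11))))) (l 67)) (l
    61)) (r 11)) (l 67)) (l 61)) (r 11)) (l 67)) (l 61)) (r 11)))))))))))))))))))))))))))))))) (s 5225 (l 57) (s 7092
    (s 5845 (s 1944 (r 13) (s 5737 (l 57) (s 2456 (s 7785 (s 4821 (s 6761 (s 6068 (s 4309 (s 6249 (s 5556 (r 13) (r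
    11)) (l 67)) (s 5556 (r 13) (r 11))) (r 11)) (l 67)) (s 6068 (l 61) (r 11))) (l 67)) (s 6249 (r 11) (s 3480 (s
    8809 (r 11) (l 67)) (r 11)))))) (l 61)) (s 5845 (l 63) (s 7273 (l 57) (s 10164 (s 8917 (s 1944 (s 10345 (s 8628
    (s 7381 (s 8809 (s 7604 (r 13) (s 6357 (l 63) (s 7785 (r 11) (s 8116 (s 6869 (s 8297 (r 11) (r 13)) (l 61)) (r
    11))))) (l 67)) (l 61)) (r 11)) (l 67)) (r 11)) (l 61)) (r 11))))))))))))))))))))) (r 13)) (r 13)))))) (l 57))))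
    (s 5 (s 0 (s 1 (l 67) (s 842 (r 11) (s 3 (s 1354 (s 821 (r 37) (s 921 (l 67) (s 616 (r 11) (s 1433 (l 67) (s 1620
    (s 1635 (r 37) (l 63)) (r 37)))))) (r 37)) (s 2357 (r 37) (s 2457 (l 67) (s 1354 (s 616 (r 11) (s 2969 (l 67) (s
    931 (r 11) (s 2869 (r 37) (s 3481 (l 67) (s 1620 (r 11) (s 3381 (r 37) (s 3993 (l 67) (s 2132 (s 1443 (r 11) (s
    3893 (r 37) (s 4505 (l 67) (s 1128 (r 11) (s 5017 (l 67) (s 1955 (r 11) (s 4405 (r 37) (s 5529 (l 67) (s 2467 (r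
    11) (s 4917 (r 37) (s 6041 (l 67) (s 3491 (s 5941 (r 37) (l 63)) (r 37))))))))))))) (s 3893 (r 37) (s 4505 (l 67)
    (s 1443 (s 3156 (r 11) (s 4917 (r 37) (s 5529 (l 67) (s 4692 (s 6453 (r 37) (l 63)) (r 37))))) (r 37)))))))))))))
    (s 2869 (r 37) (s 2969 (l 67) (s 616 (r 36) (s 3481 (l 67) (s 1866 (s 931 (s 1620 (r 11) (r 37)) (r 37)) (r
    37)))))))))))) (s 1 (s 842 (r 11) (s 3 (s 1354 (s 821 (r 37) (s 920 (l 67) (s 617 (r 11) (s 1432 (l 67) (s 1620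
    (s 1635 (r 37) (l 63)) (r 37)))))) (r 37)) (s 2357 (r 37) (s 2456 (l 67) (s 1354 (s 617 (r 11) (s 2968 (l 67) (s
    931 (r 11) (s 2869 (r 37) (s 3480 (l 67) (s 1620 (r 11) (s 3381 (r 37) (s 3992 (l 67) (s 2132 (s 1443 (r 11) (s
    3893 (r 37) (s 4504 (l 67) (s 1129 (r 11) (s 5016 (l 67) (s 1955 (r 11) (s 4405 (r 37) (s 5528 (l 67) (s 2467 (r
    11) (s 4917 (r 37) (s 6040 (l 67) (s 3491 (s 5941 (r 37) (l 63)) (r 37))))))))))))) (s 3893 (r 37) (s 4504 (l 67)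
    (s 1443 (s 3156 (r 11) (s 4917 (r 37) (s 5528 (l 67) (s 4692 (s 6453 (r 37) (l 63)) (r 37))))) (r 37)))))))))))))
    (s 2869 (r 37) (s 2968 (l 67) (s 617 (r 36) (s 3480 (l 67) (s 1866 (s 931 (s 1620 (r 11) (r 37)) (r 37)) (r
    37))))))))))) (s 821 (r 37) (s 842 (r 11) (s 3 (s 1354 (s 1620 (s 1635 (r 37) (l 63)) (r 37)) (r 37)) (s 2357 (r
    37) (s 1354 (s 931 (s 1620 (s 2869 (r 37) (l 63)) (s 2869 (r 37) (s 2132 (s 3381 (r 37) (l 63)) (s 3381 (r 37) (s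
    920 (s 2969 (l 67) (s 3156 (s 4405 (r 36) (l 63)) (r 13))) (s 921 (s 2968 (l 67) (s 3156 (s 4405 (r 36) (l 63))
    (r 13))) (s 3156 (r 11) (s 4405 (r 37) (s 4692 (s 5941 (s 5016 (s 5017 (s 1944 (s 2969 (l 67) (r 11)) (r 11)) (r
    11)) (r 11)) (l 63)) (s 5941 (r 37) (s 6740 (s 7989 (s 7064 (s 7065 (s 1944 (s 4505 (l 67) (r 11)) (r 11)) (r
    11)) (r 11)) (l 63)) (s 7989 (l 61) (s 1432 (s 7065 (l 67) (s 9812 (r 11) (s 11061 (l 61) (s 10137 (l 67) (s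
    14420 (r 11) (s 15669 (l 61) (s 14745 (l 67) (s 21588 (r 11) (s 22837 (l 61) (s 21913 (l 67) (s 32340 (r 11) (s
    33589 (l 61) (s 32665 (l 67) (s 48212 (r 11) (s 49461 (l 61) (s 48537 (l 67) (s 72276 (r 11) (s 73525 (l 61) (s
    72601 (l 67) (s 108116 (r 11) (s 109365 (l 61) (s 108441 (l 67) (r 11))))))))))))))))))))))) (s 1433 (s 7064 (l
    67) (s 9812 (r 11) (s 11061 (l 61) (s 10136 (l 67) (s 14420 (r 11) (s 15669 (l 61) (s 14744 (l 67) (s 21588 (r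
    11) (s 22837 (l 61) (s 21912 (l 67) (s 32340 (r 11) (s 33589 (l 61) (s 32664 (l 67) (s 48212 (r 11) (s 49461 (l
    61) (s 48536 (l 67) (s 72276 (r 11) (s 73525 (l 61) (s 72600 (l 67) (s 108116 (r 11) (s 109365 (l 61) (s 108440
    (l 67) (r 11))))))))))))))))))))))) (s 9812 (r 11) (s 11061 (l 61) (s 1944 (s 9625 (l 67) (r 11)) (s 1945 (s 9624
    (l 67) (r 11)) (r 11))))))))))))))))))) (s 2869 (r 37) (s 1620 (s 1443 (s 3381 (r 37) (l 63)) (s 3381 (r 37) (s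
    920 (r 13) (s 921 (r 13) (s 1955 (s 3893 (r 37) (l 63)) (s 3893 (r 37) (s 2467 (s 4405 (r 37) (l 63)) (s 4405 (r
    37) (s 1432 (s 3481 (r 13) (s 3491 (s 5429 (r 37) (l 63)) (r 13))) (s 1433 (s 3480 (r 13) (s 3491 (s 5429 (r 37)
    (l 63)) (r 13))) (s 3491 (s 5429 (r 37) (l 63)) (s 5429 (r 37) (s 1944 (s 3993 (r 13) (s 5027 (s 6965 (r 37) (l
    63)) (s 6965 (r 37) (s 5529 (r 13) (s 10037 (r 37) (s 8601 (r 13) (s 8099 (l 63) (r 13)))))))) (s 1945 (s 3992 (r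
    13) (s 5027 (s 6965 (r 37) (l 63)) (s 6965 (r 37) (s 5528 (r 13) (s 10037 (r 37) (s 8600 (r 13) (s 8099 (l 63) (r
    13)))))))) (s 5027 (s 6965 (r 37) (l 63)) (s 6965 (r 37) (s 2456 (s 5017 (l 67) (s 10037 (r 37) (s 8089 (l 67) (s
    8099 (r 11) (s 14645 (r 37) (s 12697 (l 67) (s 12707 (r 11) (s 21813 (s 19875 (s 19865 (s 17717 (r 37) (s 15769
    (l 67) (s 15779 (l 63) (r 13)))) (l 57)) (l 61)) (s 19865 (l 67) (s 19875 (l 63) (s 32565 (s 30627 (s 30617 (r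
    13) (l 57)) (r 13)) (s 30617 (r 13) (s 30627 (l 63) (r 13)))))))))))))) (s 2457 (s 5016 (l 67) (s 10037 (r 37) (s
    8088 (l 67) (s 8099 (r 11) (s 14645 (r 37) (s 12696 (l 67) (s 12707 (r 11) (s 21813 (s 19875 (s 19864 (s 17717 (r
    37) (s 15768 (l 67) (s 15779 (l 63) (r 13)))) (l 57)) (l 61)) (s 19864 (l 67) (s 19875 (l 63) (s 32565 (s 30627
    (s 30616 (r 13) (l 57)) (r 13)) (s 30616 (r 13) (s 30627 (l 63) (r 13)))))))))))))) (s 10037 (r 37) (s 8099 (l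
    63) (s 3480 (s 7065 (l 67) (s 14645 (r 37) (s 11673 (l 67) (s 12707 (r 11) (s 21813 (r 36) (s 18841 (l 67) (s
    19875 (r 11) (s 32565 (s 30627 (r 11) (l 61)) (s 29593 (l 67) (r 11)))))))))) (s 3481 (s 7064 (l 67) (s 14645 (r
    37) (s 11672 (l 67) (s 12707 (r 11) (s 21813 (r 36) (s 18840 (l 67) (s 19875 (r 11) (s 32565 (s 30627 (r 11) (l
    61)) (s 29592 (l 67) (r 11)))))))))) (s 14645 (r 37) (s 12707 (r 11) (s 5016 (s 10137 (l 67) (r 11)) (s 5017 (s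
    10136 (l 67) (r 11)) (r 11))))))))))))))))))))))))))) (s 3381 (r 37) (s 2132 (s 1443 (s 3893 (r 37) (l 63)) (s
    3893 (r 37) (s 920 (r 13) (s 921 (r 13) (s 1955 (s 4405 (r 37) (l 63)) (s 4405 (r 37) (s 2467 (s 4917 (r 37) (l
    63)) (s 4917 (r 37) (s 1432 (r 13) (s 1433 (r 13) (s 3491 (s 5941 (r 37) (l 63)) (r 37)))))))))))) (s 3893 (r 37)
    (s 1443 (s 920 (r 13) (s 921 (r 13) (s 3156 (s 4917 (r 37) (l 63)) (s 4917 (r 37) (s 4692 (s 6453 (r 37) (l 63))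
    (r 37)))))) (r 37)))))))) (s 2869 (r 37) (s 1866 (s 931 (s 1620 (s 3381 (r 37) (l 63)) (r 37)) (r 37)) (r
    37)))))))))) (s 0 (s 1 (s 842 (r 11) (s 3 (s 2659 (l 61) (s 1354 (s 616 (r 11) (s 617 (r 11) (s 1237 (l 67) (s
    3171 (l 61) (s 1620 (s 1749 (s 1128 (r 11) (l 67)) (s 3683 (l 61) (s 2261 (s 1640 (r 11) (l 67)) (s 4195 (l 61)
    (r 11))))) (s 3683 (l 61) (s 2132 (s 1749 (s 1128 (r 11) (l 67)) (s 4195 (l 61) (s 2261 (s 1640 (s 1641 (r 11) (l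
    67)) (l 67)) (s 4707 (l 61) (s 1128 (r 11) (s 1129 (r 11) (s 3285 (s 2152 (s 2153 (r 11) (l 67)) (l 67)) (s 5731
    (l 61) (s 4821 (s 3688 (s 3689 (s 7267 (s 2152 (s 1641 (r 11) (s 2665 (r 11) (s 3797 (l 67) (s 6243 (l 61) (s
    1640 (r 11) (s 3177 (r 11) (r 13))))))) (s 2665 (s 1641 (r 11) (s 3176 (s 3797 (l 67) (s 6243 (l 61) (s 2153 (r
    11) (r 13)))) (r 13))) (r 13))) (l 63)) (l 67)) (l 67)) (s 7267 (l 61) (s 1640 (s 3689 (r 11) (s 6869 (s 5737 (r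
    11) (l 67)) (s 9315 (l 61) (s 5737 (r 11) (s 9941 (s 8809 (r 11) (l 67)) (s 12387 (l 61) (r 11))))))) (s 1641 (s
    3688 (r 11) (s 6869 (s 5736 (r 11) (l 67)) (s 9315 (l 61) (s 5736 (r 11) (s 9941 (s 8808 (r 11) (l 67)) (s 12387
    (l 61) (r 11))))))) (s 6869 (s 5224 (s 5225 (s 9315 (s 2664 (s 2665 (l 57) (s 5845 (s 4201 (s 8291 (s 2152 (s
    3177 (r 11) (r 13)) (r 13)) (l 63)) (r 13)) (s 8291 (l 61) (s 3689 (l 57) (r 13))))) (s 4201 (s 2665 (s 5845 (s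
    4200 (s 8291 (s 2153 (s 3176 (r 11) (r 13)) (r 13)) (l 63)) (r 13)) (s 8291 (l 61) (s 3688 (l 57) (r 13)))) (r
    13)) (r 13))) (l 63)) (l 67)) (l 67)) (s 9315 (l 61) (s 2152 (s 5225 (l 57) (s 9941 (s 8297 (s 12387 (r 13) (l
    63)) (l 67)) (s 12387 (r 13) (s 8297 (l 57) (s 14549 (s 12905 (s 16995 (r 13) (l 63)) (r 13)) (s 16995 (r 37) (s
    12905 (l 57) (r 13)))))))) (s 2153 (s 5224 (l 57) (s 9941 (s 8296 (s 12387 (r 13) (l 63)) (l 67)) (s 12387 (r 13)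
    (s 8296 (l 57) (s 14549 (s 12904 (s 16995 (r 13) (l 63)) (r 13)) (s 16995 (r 37) (s 12904 (l 57) (r 13)))))))) (s
    9941 (s 7784 (s 7785 (s 12387 (s 3688 (s 3689 (l 57) (r 13)) (r 13)) (l 63)) (r 13)) (r 13)) (s 12387 (l 61) (s
    3176 (s 7273 (l 57) (r 13)) (s 3177 (s 7272 (l 57) (r 13)) (r 13))))))))))))))))))))) (s 4195 (l 61) (s 1749 (s
    1128 (s 1129 (s 3156 (r 11) (s 5219 (l 61) (s 4692 (r 11) (s 6755 (l 61) (s 6740 (r 11) (s 8803 (l 61) (s 9812 (r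
    11) (s 11875 (l 61) (s 14420 (r 11) (s 16483 (l 61) (s 21588 (r 11) (s 23651 (l 61) (s 32340 (r 11) (s 34403 (l
    61) (r 11))))))))))))))) (l 67)) (l 67)) (s 4707 (l 61) (s 3156 (s 2261 (s 1640 (s 1641 (s 5731 (s 1128 (r 11) (s
    1129 (r 11) (l 67))) (l 63)) (l 67)) (l 67)) (s 5219 (l 61) (s 1128 (s 1641 (r 11) (s 3285 (s 2665 (r 11) (l 67))
    (s 6243 (l 61) (s 2665 (r 11) (s 4821 (s 4201 (s 8291 (s 2644 (r 11) (s 6755 (l 61) (s 3797 (s 3177 (r 11) (l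
    67)) (s 7267 (l 61) (s 3177 (r 11) (s 4309 (s 3689 (r 11) (l 67)) (s 7779 (l 61) (r 11)))))))) (r 11)) (l 67)) (s
    7779 (l 61) (s 4201 (r 11) (s 6869 (s 6249 (s 10339 (s 2644 (r 11) (s 8291 (r 13) (s 5845 (s 5225 (s 9315 (s 5333
    (s 4713 (s 8803 (r 13) (l 63)) (r 13)) (s 8803 (r 13) (s 4713 (l 57) (r 13)))) (l 63)) (r 13)) (s 9315 (l 61) (s
    5225 (l 57) (r 13)))))) (l 63)) (l 67)) (r 36))))))))) (s 1129 (s 1640 (r 11) (s 3285 (s 2664 (r 11) (l 67)) (s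
    6243 (l 61) (s 2664 (r 11) (s 4821 (s 4200 (s 8291 (s 2644 (r 11) (s 6755 (l 61) (s 3797 (s 3176 (r 11) (l 67))
    (s 7267 (l 61) (s 3176 (r 11) (s 4309 (s 3688 (r 11) (l 67)) (s 7779 (l 61) (r 11)))))))) (r 11)) (l 67)) (s 7779
    (l 61) (s 4200 (r 11) (s 6869 (s 6248 (s 10339 (s 2644 (r 11) (s 8291 (r 13) (s 5845 (s 5224 (s 9315 (s 5333 (s
    4712 (s 8803 (r 13) (l 63)) (r 13)) (s 8803 (r 13) (s 4712 (l 57) (r 13)))) (l 63)) (r 13)) (s 9315 (l 61) (s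
    5224 (l 57) (r 13)))))) (l 63)) (l 67)) (r 36))))))))) (s 3285 (s 2152 (s 2153 (s 6755 (s 2644 (s 6243 (s 1640 (s
    1641 (r 11) (r 13)) (r 13)) (l 63)) (r 13)) (l 63)) (l 67)) (l 67)) (s 6243 (l 61) (s 4821 (s 3688 (s 3689 (s
    8291 (s 2152 (s 1641 (l 57) (r 13)) (r 13)) (l 63)) (r 13)) (r 13)) (s 7779 (l 61) (s 1640 (s 3689 (l 57) (r 13))
    (s 1641 (s 3688 (l 57) (r 13)) (r 13))))))))))) (s 5731 (l 61) (s 2261 (s 1640 (s 1641 (s 4692 (s 7267 (s 1128 (s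
    1129 (r 11) (s 3668 (r 11) (s 6243 (l 61) (r 11)))) (s 1129 (s 3668 (r 11) (s 6243 (l 61) (r 11))) (r 13))) (l
    63)) (s 7267 (l 61) (s 6740 (s 9315 (s 1128 (s 1129 (r 11) (r 13)) (r 13)) (l 63)) (s 9315 (l 61) (s 9812 (s
    12387 (s 1128 (s 1129 (r 11) (r 13)) (r 13)) (l 63)) (s 12387 (l 61) (s 1128 (s 1129 (l 57) (r 13)) (r 13))))))))
    (l 67)) (l 67)) (s 6243 (l 61) (s 4692 (s 1128 (s 1641 (r 11) (s 3285 (s 2665 (s 8291 (s 3668 (s 7267 (s 2773 (s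
    2153 (r 11) (r 13)) (s 6755 (l 61) (s 2153 (r 11) (r 13)))) (l 63)) (r 13)) (l 63)) (l 67)) (s 7267 (l 61) (s
    2665 (l 57) (s 4821 (s 4201 (s 9827 (r 13) (l 63)) (r 13)) (s 8803 (r 13) (s 4201 (l 57) (r 13)))))))) (s 1129 (s
    1640 (r 11) (s 3285 (s 2664 (s 8291 (s 3668 (s 7267 (s 2773 (s 2152 (r 11) (r 13)) (s 6755 (l 61) (s 2152 (r 11)
    (r 13)))) (l 63)) (r 13)) (l 63)) (l 67)) (s 7267 (l 61) (s 2664 (l 57) (s 4821 (s 4200 (s 9827 (r 13) (l 63)) (r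
    13)) (s 8803 (r 13) (s 4200 (l 57) (r 13)))))))) (r 13))) (s 7779 (l 61) (s 1128 (s 1641 (l 57) (r 13)) (s 1129
    (s 1640 (l 57) (r 13)) (r 13))))))))))))))))))) (s 3171 (l 61) (s 616 (s 617 (r 11) (s 1866 (r 11) (s 3683 (l 61)
    (s 2378 (r 11) (s 4195 (l 61) (s 3402 (s 1620 (r 11) (s 4707 (l 61) (s 1237 (s 1129 (r 11) (l 67)) (r 36)))) (s
    5219 (l 61) (s 1620 (s 1237 (s 1129 (r 11) (l 67)) (r 36)) (s 5731 (l 61) (s 1237 (s 1129 (s 4938 (s 2132 (r 11)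
    (s 6243 (l 61) (s 3156 (r 11) (s 7267 (l 61) (s 4692 (r 11) (s 8803 (l 61) (s 6740 (s 11875 (s 3914 (r 11) (s
    9315 (l 61) (s 4426 (r 11) (s 9827 (l 61) (s 5716 (s 10851 (s 5204 (r 11) (r 13)) (l 63)) (r 13)))))) (l 63)) (s
    10851 (l 61) (s 3914 (s 9812 (r 11) (s 13923 (l 61) (s 14420 (r 11) (s 18531 (l 61) (s 21588 (r 11) (s 25699 (l
    61) (s 32340 (r 11) (s 36451 (l 61) (s 48212 (r 11) (s 52323 (l 61) (s 72276 (r 11) (s 76387 (l 61) (s 108116 (r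
    11) (s 112227 (l 61) (s 161876 (r 11) (s 165987 (l 61) (s 242772 (r 11) (s 246883 (l 61) (s 364116 (r 11) (s
    368227 (l 61) (s 545876 (s 549987 (s 436820 (r 11) (s 440931 (l 61) (r 11))) (r 11)) (s 549987 (l 61) (s 818772
    (s 822883 (s 654932 (s 659043 (s 595540 (r 11) (s 599651 (l 61) (r 11))) (r 11)) (s 659043 (l 61) (s 727636 (s
    731747 (s 689236 (r 11) (s 693347 (l 61) (s 708180 (r 11) (s 712291 (l 61) (s 717908 (r 11) (s 722019 (l 61) (s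
    722516 (r 11) (s 726627 (l 61) (s 725076 (r 11) (s 729187 (l 61) (s 726100 (r 11) (s 730211 (l 61) (s 726612 (r
    11) (s 730723 (l 61) (s 727124 (r 11) (s 731235 (r 13) (r 11))))))))))))))))) (r 11)) (s 731747 (r 13) (s 770644
    (s 774755 (s 748628 (s 752739 (s 737876 (s 741987 (s 732756 (s 736867 (s 730196 (s 734307 (s 728660 (s 732771 (s
    728148 (s 732259 (r 13) (r 11)) (r 13)) (l 63)) (r 13)) (l 63)) (r 13)) (l 63)) (r 13)) (l 63)) (r 13)) (l 63))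
    (r 13)) (l 63)) (r 13)))))) (l 63)) (s 822883 (r 13) (s 1227860 (s 1231971 (s 982612 (s 986723 (s 893524 (s
    897635 (r 13) (l 63)) (r 13)) (l 63)) (r 13)) (l 63)) (s 1231971 (r 13) (s 1841748 (s 1845859 (r 13) (l 63)) (r
    13)))))))))))))))))))))))))))) (s 11363 (l 61) (s 9812 (s 14947 (s 4426 (s 14435 (s 8276 (r 11) (s 12899 (r 13)
    (s 8788 (s 13411 (r 13) (r 11)) (r 13)))) (l 63)) (r 13)) (l 63)) (s 14435 (r 13) (s 14420 (s 19555 (r 13) (l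
    63)) (r 13)))))))))))))) (s 7267 (l 61) (s 2132 (s 6986 (r 11) (s 9315 (l 61) (s 10058 (r 11) (s 12387 (l 61) (s
    14666 (r 11) (s 16995 (l 61) (s 21834 (r 11) (s 24163 (l 61) (s 32586 (r 11) (s 34915 (l 61) (s 48458 (s 50787 (s
    39242 (r 11) (s 41571 (l 61) (s 43338 (s 45667 (s 41290 (r 11) (s 43619 (l 61) (s 42314 (s 44643 (s 41802 (r 11)
    (s 44131 (r 13) (r 11))) (r 11)) (r 13)))) (l 63)) (r 13)))) (l 63)) (s 50787 (r 13) (s 72522 (s 74851 (r 13) (l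
    63)) (r 13)))))))))))))) (s 7779 (l 61) (s 3156 (s 6986 (r 11) (s 9827 (l 61) (s 10058 (s 13411 (s 2644 (s 12899
    (s 8522 (r 11) (s 11363 (l 61) (r 11))) (r 11)) (s 10339 (r 13) (s 8522 (s 11875 (r 13) (l 63)) (r 13)))) (l 63))
    (s 12899 (r 13) (s 14666 (s 18019 (s 2644 (s 17507 (s 12106 (s 14947 (s 11082 (s 13923 (r 13) (l 63)) (r 13)) (l
    63)) (r 13)) (l 63)) (r 13)) (l 63)) (r 13)))))) (s 8803 (l 61) (s 6986 (s 4692 (s 11875 (s 5962 (s 10851 (s 3668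
    (r 11) (s 9315 (l 61) (s 5450 (s 10339 (s 4180 (r 11) (r 13)) (l 63)) (r 13)))) (l 63)) (r 13)) (l 63)) (s 10339
    (r 13) (s 6740 (s 13923 (r 13) (l 63)) (r 13)))) (r 13)))))))) (l 67)) (r 36))))))))))) (s 617 (s 1866 (r 11) (s
    3683 (l 61) (s 2378 (r 11) (s 4195 (l 61) (s 3402 (s 1620 (r 11) (s 4707 (l 61) (s 1237 (s 1128 (r 11) (l 67)) (r
    36)))) (s 5219 (l 61) (s 1620 (s 1237 (s 1128 (r 11) (l 67)) (r 36)) (s 5731 (l 61) (s 1237 (s 1128 (s 4938 (s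
    2132 (r 11) (s 6243 (l 61) (s 3156 (r 11) (s 7267 (l 61) (s 4692 (r 11) (s 8803 (l 61) (s 6740 (s 11875 (s 3914
    (r 11) (s 9315 (l 61) (s 4426 (r 11) (s 9827 (l 61) (s 5716 (s 10851 (s 5204 (r 11) (r 13)) (l 63)) (r 13))))))
    (l 63)) (s 10851 (l 61) (s 3914 (s 9812 (r 11) (s 13923 (l 61) (s 14420 (r 11) (s 18531 (l 61) (s 21588 (r 11) (s
    25699 (l 61) (s 32340 (r 11) (s 36451 (l 61) (s 48212 (r 11) (s 52323 (l 61) (s 72276 (r 11) (s 76387 (l 61) (s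
    108116 (r 11) (s 112227 (l 61) (s 161876 (r 11) (s 165987 (l 61) (s 242772 (r 11) (s 246883 (l 61) (s 364116 (r
    11) (s 368227 (l 61) (s 545876 (s 549987 (s 436820 (r 11) (s 440931 (l 61) (r 11))) (r 11)) (s 549987 (l 61) (s
    818772 (s 822883 (s 654932 (s 659043 (s 595540 (r 11) (s 599651 (l 61) (r 11))) (r 11)) (s 659043 (l 61) (s
    727636 (s 731747 (s 689236 (r 11) (s 693347 (l 61) (s 708180 (r 11) (s 712291 (l 61) (s 717908 (r 11) (s 722019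
    (l 61) (s 722516 (r 11) (s 726627 (l 61) (s 725076 (r 11) (s 729187 (l 61) (s 726100 (r 11) (s 730211 (l 61) (s
    726612 (r 11) (s 730723 (l 61) (s 727124 (r 11) (s 731235 (r 13) (r 11))))))))))))))))) (r 11)) (s 731747 (r 13)
    (s 770644 (s 774755 (s 748628 (s 752739 (s 737876 (s 741987 (s 732756 (s 736867 (s 730196 (s 734307 (s 728660 (s
    732771 (s 728148 (s 732259 (r 13) (r 11)) (r 13)) (l 63)) (r 13)) (l 63)) (r 13)) (l 63)) (r 13)) (l 63)) (r 13))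
    (l 63)) (r 13)) (l 63)) (r 13)))))) (l 63)) (s 822883 (r 13) (s 1227860 (s 1231971 (s 982612 (s 986723 (s 893524
    (s 897635 (r 13) (l 63)) (r 13)) (l 63)) (r 13)) (l 63)) (s 1231971 (r 13) (s 1841748 (s 1845859 (r 13) (l 63))
    (r 13)))))))))))))))))))))))))))) (s 11363 (l 61) (s 9812 (s 14947 (s 4426 (s 14435 (s 8276 (r 11) (s 12899 (r
    13) (s 8788 (s 13411 (r 13) (r 11)) (r 13)))) (l 63)) (r 13)) (l 63)) (s 14435 (r 13) (s 14420 (s 19555 (r 13) (l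
    63)) (r 13)))))))))))))) (s 7267 (l 61) (s 2132 (s 6986 (r 11) (s 9315 (l 61) (s 10058 (r 11) (s 12387 (l 61) (s
    14666 (r 11) (s 16995 (l 61) (s 21834 (r 11) (s 24163 (l 61) (s 32586 (r 11) (s 34915 (l 61) (s 48458 (s 50787 (s
    39242 (r 11) (s 41571 (l 61) (s 43338 (s 45667 (s 41290 (r 11) (s 43619 (l 61) (s 42314 (s 44643 (s 41802 (r 11)
    (s 44131 (r 13) (r 11))) (r 11)) (r 13)))) (l 63)) (r 13)))) (l 63)) (s 50787 (r 13) (s 72522 (s 74851 (r 13) (l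
    63)) (r 13)))))))))))))) (s 7779 (l 61) (s 3156 (s 6986 (r 11) (s 9827 (l 61) (s 10058 (s 13411 (s 2644 (s 12899
    (s 8522 (r 11) (s 11363 (l 61) (r 11))) (r 11)) (s 10339 (r 13) (s 8522 (s 11875 (r 13) (l 63)) (r 13)))) (l 63))
    (s 12899 (r 13) (s 14666 (s 18019 (s 2644 (s 17507 (s 12106 (s 14947 (s 11082 (s 13923 (r 13) (l 63)) (r 13)) (l
    63)) (r 13)) (l 63)) (r 13)) (l 63)) (r 13)))))) (s 8803 (l 61) (s 6986 (s 4692 (s 11875 (s 5962 (s 10851 (s 3668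
    (r 11) (s 9315 (l 61) (s 5450 (s 10339 (s 4180 (r 11) (r 13)) (l 63)) (r 13)))) (l 63)) (r 13)) (l 63)) (s 10339
    (r 13) (s 6740 (s 13923 (r 13) (l 63)) (r 13)))) (r 13)))))))) (l 67)) (r 36)))))))))) (r 13)))))) (l 61))) (s
    1128 (l 57) (s 842 (r 11) (s 3 (s 2659 (l 61) (s 1354 (s 1620 (s 1237 (s 3171 (s 921 (r 13) (s 1640 (l 57) (s
    1433 (r 13) (s 2152 (l 57) (s 1945 (r 13) (s 2664 (l 57) (s 2457 (r 13) (s 3176 (l 57) (s 3481 (r 13) (s 4200 (l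
    57) (s 5017 (r 13) (s 5736 (l 57) (r 13))))))))))))) (l 63)) (s 3171 (l 61) (s 1640 (l 57) (s 1749 (s 3683 (s 921
    (r 13) (s 2152 (l 57) (s 1433 (r 13) (s 2664 (l 57) (s 1945 (r 13) (s 3176 (l 57) (s 2457 (r 13) (s 3688 (l 57)
    (s 3481 (r 13) (s 4712 (l 57) (s 5017 (r 13) (s 6248 (l 57) (s 7065 (r 13) (s 8296 (l 57) (s 10137 (r 13) (s
    11368 (l 57) (r 13))))))))))))))))) (l 63)) (s 3683 (l 61) (s 2152 (l 57) (s 921 (r 13) (s 2664 (l 57) (s 2261 (s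
    4195 (s 1433 (r 13) (s 3176 (l 57) (s 1945 (r 13) (s 3688 (l 57) (s 2457 (r 13) (s 4200 (l 57) (s 3481 (r 13) (s
    5224 (l 57) (s 5017 (r 13) (s 6760 (l 57) (s 7065 (r 13) (s 8808 (l 57) (s 10137 (r 13) (s 11880 (l 57) (s 14745
    (r 13) (s 16488 (l 57) (s 21913 (r 13) (s 23656 (l 57) (s 32665 (r 13) (s 34408 (l 57) (r 13)))))))))))))))))))))
    (l 63)) (s 4195 (l 61) (s 3176 (l 57) (s 3285 (s 5219 (s 1433 (r 13) (s 3688 (l 57) (s 1945 (r 13) (s 4200 (l 57)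
    (s 2457 (r 13) (s 4712 (l 57) (s 3481 (r 13) (s 5736 (l 57) (s 5017 (s 7784 (s 2773 (s 7272 (s 4707 (r 13) (l
    63)) (r 13)) (s 4707 (r 13) (s 6248 (l 57) (s 3993 (r 13) (s 6760 (l 57) (r 13)))))) (r 13)) (s 7272 (l 57) (s
    2773 (s 4707 (s 7065 (s 9320 (s 6041 (r 13) (s 8296 (l 57) (r 13))) (r 13)) (s 9320 (l 57) (s 10137 (s 12392 (s
    8601 (s 10856 (s 7577 (r 13) (s 9832 (l 57) (s 8089 (r 13) (s 10344 (r 11) (r 13))))) (r 13)) (s 10856 (r 11) (s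
    9113 (s 11368 (r 11) (r 13)) (s 11368 (r 11) (s 9625 (s 11880 (r 11) (r 13)) (r 11)))))) (l 67)) (s 12392 (r 11)
    (s 14745 (s 17000 (s 12185 (s 14440 (s 11161 (s 13416 (r 11) (l 67)) (r 11)) (l 67)) (r 11)) (l 67)) (s 17000 (r
    11) (s 21913 (s 24168 (s 17817 (s 20072 (r 11) (l 67)) (r 11)) (l 67)) (s 24168 (r 11) (s 32665 (s 34920 (r 11)
    (l 67)) (s 34920 (r 11) (s 48537 (s 50792 (r 11) (l 67)) (r 11)))))))))))) (l 63)) (s 4707 (l 61) (s 7784 (r 11)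
    (s 7065 (s 9832 (s 6041 (s 8808 (s 5529 (r 13) (r 11)) (l 67)) (r 11)) (l 67)) (s 9832 (r 11) (s 10137 (s 12904
    (r 11) (l 67)) (s 12904 (r 11) (s 14745 (s 17512 (r 11) (l 67)) (r 11))))))))))))))))))) (l 63)) (s 5219 (l 61)
    (s 4200 (l 57) (s 1433 (r 13) (s 4712 (l 57) (s 4821 (s 6755 (s 1945 (r 13) (s 5224 (l 57) (s 2457 (r 13) (s 5736
    (l 57) (s 3481 (s 7784 (s 3797 (s 6760 (s 5731 (r 13) (l 63)) (r 13)) (s 5731 (r 13) (s 6248 (l 57) (r 13)))) (r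
    13)) (s 6760 (l 57) (s 5017 (s 9320 (s 3797 (s 8296 (s 5731 (s 3993 (r 13) (s 7272 (r 11) (s 4505 (r 13) (r
    11)))) (l 63)) (l 67)) (s 5731 (l 61) (s 7272 (l 57) (s 4309 (s 8808 (s 6243 (s 3993 (r 13) (r 11)) (l 63)) (l
    67)) (s 6243 (l 61) (s 7784 (r 11) (s 3993 (s 8296 (r 11) (r 13)) (r 11)))))))) (l 67)) (s 8296 (r 11) (s 3797 (s
    5731 (s 7065 (s 10344 (r 11) (l 67)) (s 10344 (r 11) (s 10137 (s 13416 (r 11) (l 67)) (r 11)))) (l 63)) (s 5731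
    (l 61) (s 8808 (r 11) (s 7065 (s 11368 (r 11) (l 67)) (s 10856 (r 11) (s 10137 (s 14440 (r 11) (l 67)) (r
    11))))))))))))))) (l 63)) (s 6755 (l 61) (s 6248 (l 57) (s 1945 (r 13) (s 6760 (l 57) (s 6869 (s 8803 (s 2457 (r
    13) (s 7272 (l 57) (s 3481 (s 9832 (s 5845 (s 8808 (s 7779 (s 2969 (r 13) (s 7784 (l 57) (r 13))) (l 63)) (l 67))
    (s 7779 (l 61) (s 8296 (l 57) (s 2969 (r 13) (s 8808 (r 11) (s 6357 (s 9320 (s 8291 (r 13) (r 11)) (l 67)) (s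
    8291 (r 13) (r 11)))))))) (r 13)) (s 8296 (r 11) (s 5017 (s 11368 (s 5845 (s 10344 (s 7779 (s 5333 (s 9832 (r 11)
    (l 67)) (s 7267 (l 61) (r 11))) (r 11)) (l 67)) (s 7779 (l 61) (r 11))) (l 67)) (s 9832 (r 11) (s 7065 (s 13416
    (r 11) (l 67)) (r 11)))))))) (l 63)) (s 8803 (l 61) (s 8808 (l 57) (s 2457 (s 9941 (s 11880 (s 11875 (r 13) (l
    63)) (l 67)) (s 11875 (r 13) (s 11880 (l 57) (s 14549 (s 16488 (s 16483 (r 13) (l 63)) (r 13)) (s 16483 (r 13) (s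
    16488 (l 57) (r 13))))))) (s 9320 (l 57) (s 9941 (s 11875 (s 3481 (s 12904 (s 8405 (s 11368 (s 10339 (s 2969 (r
    13) (r 11)) (l 63)) (l 67)) (s 10339 (l 61) (s 10856 (l 57) (s 2969 (r 13) (r 11))))) (l 67)) (s 10344 (r 11) (s
    5017 (s 14440 (r 11) (l 67)) (r 11)))) (l 63)) (s 11875 (l 61) (s 12392 (l 57) (s 3481 (s 14549 (s 17512 (s 16483
    (s 11989 (s 14952 (s 13923 (s 2969 (r 13) (r 11)) (l 63)) (l 67)) (s 13923 (l 61) (s 14440 (l 57) (s 2969 (r 13)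
    (r 11))))) (l 63)) (l 67)) (s 16483 (l 61) (s 17000 (l 57) (s 21717 (s 24680 (s 23651 (s 17621 (s 20584 (s 19555
    (s 2969 (s 20072 (s 16085 (s 18536 (s 18019 (r 13) (l 63)) (l 67)) (s 18019 (r 13) (s 18536 (l 57) (s 16597 (s
    19048 (s 18531 (r 13) (l 63)) (l 67)) (s 18531 (r 13) (s 19048 (l 57) (s 17109 (s 19560 (s 19043 (r 13) (r 11))
    (r 13)) (s 19043 (r 13) (s 19560 (r 11) (r 13)))))))))) (r 13)) (r 11)) (r 11)) (l 67)) (s 19555 (l 61) (s 20072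
    (r 11) (s 2969 (s 24168 (s 19669 (s 22120 (s 21603 (s 18645 (s 21096 (s 20579 (s 18133 (s 20584 (r 11) (l 67)) (s
    20067 (l 61) (r 11))) (r 11)) (l 67)) (s 20579 (l 61) (r 11))) (r 11)) (l 67)) (s 21603 (l 61) (r 11))) (l 67))
    (r 11))))) (r 11)) (l 67)) (s 23651 (l 61) (s 24168 (r 11) (s 32469 (s 35432 (s 34403 (s 2969 (s 34920 (s 26325
    (s 28776 (r 11) (l 67)) (s 28259 (l 61) (r 11))) (l 67)) (r 11)) (r 11)) (l 67)) (s 34403 (l 61) (s 34920 (r 11)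
    (s 48341 (s 51304 (r 11) (l 67)) (s 50275 (l 61) (r 11)))))))))))) (r 11))))))))))))))))))))))))))))))) (s 3171
    (r 13) (s 1237 (s 2132 (s 3683 (r 13) (l 63)) (r 13)) (s 3683 (r 13) (s 1640 (l 57) (r 13)))))) (r 13))) (l
    61))))) (s 1 (s 1129 (l 57) (s 842 (r 11) (s 3 (s 2659 (l 61) (s 1354 (s 1620 (s 1237 (s 3171 (s 920 (r 13) (s
    1641 (l 57) (s 1432 (r 13) (s 2153 (l 57) (s 1944 (r 13) (s 2665 (l 57) (s 2456 (r 13) (s 3177 (l 57) (s 3480 (r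
    13) (s 4201 (l 57) (s 5016 (r 13) (s 5737 (l 57) (r 13))))))))))))) (l 63)) (s 3171 (l 61) (s 1641 (l 57) (s 1749
    (s 3683 (s 920 (r 13) (s 2153 (l 57) (s 1432 (r 13) (s 2665 (l 57) (s 1944 (r 13) (s 3177 (l 57) (s 2456 (r 13)
    (s 3689 (l 57) (s 3480 (r 13) (s 4713 (l 57) (s 5016 (r 13) (s 6249 (l 57) (s 7064 (r 13) (s 8297 (l 57) (s 10136
    (r 13) (s 11369 (l 57) (r 13))))))))))))))))) (l 63)) (s 3683 (l 61) (s 2153 (l 57) (s 920 (r 13) (s 2665 (l 57)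
    (s 2261 (s 4195 (s 1432 (r 13) (s 3177 (l 57) (s 1944 (r 13) (s 3689 (l 57) (s 2456 (r 13) (s 4201 (l 57) (s 3480
    (r 13) (s 5225 (l 57) (s 5016 (r 13) (s 6761 (l 57) (s 7064 (r 13) (s 8809 (l 57) (s 10136 (r 13) (s 11881 (l 57)
    (s 14744 (r 13) (s 16489 (l 57) (s 21912 (r 13) (s 23657 (l 57) (s 32664 (r 13) (s 34409 (l 57) (r
    13))))))))))))))))))))) (l 63)) (s 4195 (l 61) (s 3177 (l 57) (s 3285 (s 5219 (s 1432 (r 13) (s 3689 (l 57) (s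
    1944 (r 13) (s 4201 (l 57) (s 2456 (r 13) (s 4713 (l 57) (s 3480 (r 13) (s 5737 (l 57) (s 5016 (s 7785 (s 2773 (s
    7273 (s 4707 (r 13) (l 63)) (r 13)) (s 4707 (r 13) (s 6249 (l 57) (s 3992 (r 13) (s 6761 (l 57) (r 13)))))) (r
    13)) (s 7273 (l 57) (s 2773 (s 4707 (s 7064 (s 9321 (s 6040 (r 13) (s 8297 (l 57) (r 13))) (r 13)) (s 9321 (l 57)
    (s 10136 (s 12393 (s 8600 (s 10857 (s 7576 (r 13) (s 9833 (l 57) (s 8088 (r 13) (s 10345 (r 11) (r 13))))) (r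
    13)) (s 10857 (r 11) (s 9112 (s 11369 (r 11) (r 13)) (s 11369 (r 11) (s 9624 (s 11881 (r 11) (r 13)) (r 11))))))
    (l 67)) (s 12393 (r 11) (s 14744 (s 17001 (s 12184 (s 14441 (s 11160 (s 13417 (r 11) (l 67)) (r 11)) (l 67)) (r
    11)) (l 67)) (s 17001 (r 11) (s 21912 (s 24169 (s 17816 (s 20073 (r 11) (l 67)) (r 11)) (l 67)) (s 24169 (r 11)
    (s 32664 (s 34921 (r 11) (l 67)) (s 34921 (r 11) (s 48536 (s 50793 (r 11) (l 67)) (r 11)))))))))))) (l 63)) (s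
    4707 (l 61) (s 7785 (r 11) (s 7064 (s 9833 (s 6040 (s 8809 (s 5528 (r 13) (r 11)) (l 67)) (r 11)) (l 67)) (s 9833
    (r 11) (s 10136 (s 12905 (r 11) (l 67)) (s 12905 (r 11) (s 14744 (s 17513 (r 11) (l 67)) (r 11)))))))))))))))))))
    (l 63)) (s 5219 (l 61) (s 4201 (l 57) (s 1432 (r 13) (s 4713 (l 57) (s 4821 (s 6755 (s 1944 (r 13) (s 5225 (l 57)
    (s 2456 (r 13) (s 5737 (l 57) (s 3480 (s 7785 (s 3797 (s 6761 (s 5731 (r 13) (l 63)) (r 13)) (s 5731 (r 13) (s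
    6249 (l 57) (r 13)))) (r 13)) (s 6761 (l 57) (s 5016 (s 9321 (s 3797 (s 8297 (s 5731 (s 3992 (r 13) (s 7273 (r
    11) (s 4504 (r 13) (r 11)))) (l 63)) (l 67)) (s 5731 (l 61) (s 7273 (l 57) (s 4309 (s 8809 (s 6243 (s 3992 (r 13)
    (r 11)) (l 63)) (l 67)) (s 6243 (l 61) (s 7785 (r 11) (s 3992 (s 8297 (r 11) (r 13)) (r 11)))))))) (l 67)) (s
    8297 (r 11) (s 3797 (s 5731 (s 7064 (s 10345 (r 11) (l 67)) (s 10345 (r 11) (s 10136 (s 13417 (r 11) (l 67)) (r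
    11)))) (l 63)) (s 5731 (l 61) (s 8809 (r 11) (s 7064 (s 11369 (r 11) (l 67)) (s 10857 (r 11) (s 10136 (s 14441 (r
    11) (l 67)) (r 11))))))))))))))) (l 63)) (s 6755 (l 61) (s 6249 (l 57) (s 1944 (r 13) (s 6761 (l 57) (s 6869 (s
    8803 (s 2456 (r 13) (s 7273 (l 57) (s 3480 (s 9833 (s 5845 (s 8809 (s 7779 (s 2968 (r 13) (s 7785 (l 57) (r 13)))
    (l 63)) (l 67)) (s 7779 (l 61) (s 8297 (l 57) (s 2968 (r 13) (s 8809 (r 11) (s 6357 (s 9321 (s 8291 (r 13) (r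
    11)) (l 67)) (s 8291 (r 13) (r 11)))))))) (r 13)) (s 8297 (r 11) (s 5016 (s 11369 (s 5845 (s 10345 (s 7779 (s
    5333 (s 9833 (r 11) (l 67)) (s 7267 (l 61) (r 11))) (r 11)) (l 67)) (s 7779 (l 61) (r 11))) (l 67)) (s 9833 (r
    11) (s 7064 (s 13417 (r 11) (l 67)) (r 11)))))))) (l 63)) (s 8803 (l 61) (s 8809 (l 57) (s 2456 (s 9941 (s 11881
    (s 11875 (r 13) (l 63)) (l 67)) (s 11875 (r 13) (s 11881 (l 57) (s 14549 (s 16489 (s 16483 (r 13) (l 63)) (r 13))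
    (s 16483 (r 13) (s 16489 (l 57) (r 13))))))) (s 9321 (l 57) (s 9941 (s 11875 (s 3480 (s 12905 (s 8405 (s 11369 (s
    10339 (s 2968 (r 13) (r 11)) (l 63)) (l 67)) (s 10339 (l 61) (s 10857 (l 57) (s 2968 (r 13) (r 11))))) (l 67)) (s
    10345 (r 11) (s 5016 (s 14441 (r 11) (l 67)) (r 11)))) (l 63)) (s 11875 (l 61) (s 12393 (l 57) (s 3480 (s 14549
    (s 17513 (s 16483 (s 11989 (s 14953 (s 13923 (s 2968 (r 13) (r 11)) (l 63)) (l 67)) (s 13923 (l 61) (s 14441 (l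
    57) (s 2968 (r 13) (r 11))))) (l 63)) (l 67)) (s 16483 (l 61) (s 17001 (l 57) (s 21717 (s 24681 (s 23651 (s 17621
    (s 20585 (s 19555 (s 2968 (s 20073 (s 16085 (s 18537 (s 18019 (r 13) (l 63)) (l 67)) (s 18019 (r 13) (s 18537 (l
    57) (s 16597 (s 19049 (s 18531 (r 13) (l 63)) (l 67)) (s 18531 (r 13) (s 19049 (l 57) (s 17109 (s 19561 (s 19043
    (r 13) (r 11)) (r 13)) (s 19043 (r 13) (s 19561 (r 11) (r 13)))))))))) (r 13)) (r 11)) (r 11)) (l 67)) (s 19555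
    (l 61) (s 20073 (r 11) (s 2968 (s 24169 (s 19669 (s 22121 (s 21603 (s 18645 (s 21097 (s 20579 (s 18133 (s 20585
    (r 11) (l 67)) (s 20067 (l 61) (r 11))) (r 11)) (l 67)) (s 20579 (l 61) (r 11))) (r 11)) (l 67)) (s 21603 (l 61)
    (r 11))) (l 67)) (r 11))))) (r 11)) (l 67)) (s 23651 (l 61) (s 24169 (r 11) (s 32469 (s 35433 (s 34403 (s 2968 (s
    34921 (s 26325 (s 28777 (r 11) (l 67)) (s 28259 (l 61) (r 11))) (l 67)) (r 11)) (r 11)) (l 67)) (s 34403 (l 61)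
    (s 34921 (r 11) (s 48341 (s 51305 (r 11) (l 67)) (s 50275 (l 61) (r 11)))))))))))) (r
    11))))))))))))))))))))))))))))))) (s 3171 (r 13) (s 1237 (s 2132 (s 3683 (r 13) (l 63)) (r 13)) (s 3683 (r 13) (s
    1641 (l 57) (r 13)))))) (r 13))) (l 61)))) (l 57))))))

theorem ref12 : Refuted false
    [⟨2, 0, 1, 1⟩, ⟨2, 0, 1, 1⟩, ⟨1, 1, 0, -1⟩, ⟨1, 1, 0, 0⟩, ⟨1, 1, 0, 2⟩, ⟨1, 1, 1, 2⟩] :=
  refuted_of_chk tr12 (cs := [⟨0, 1, 2, 9⟩, ⟨0, 1, 2, 9⟩, ⟨1, 0, -1, 81⟩, ⟨1, 0, 0, 16⟩, ⟨1, 0, 2, 36⟩, ⟨1, 1, 2, 100⟩])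
    (bs := [.both 13 51, .both 13 51, .both 87 41, .both 76 52, .both 54 138, .both 38 90])
    (by decide +kernel) (by decide +kernel) (by decide +kernel)

def tr13 : Tr :=
    (s 7 (r 37) (s 4 (r 37) (s 5 (r 37) (s 6 (r 37) (l 61)))))

theorem ref13 : Refuted false
    [⟨4, 0, 1, 1⟩, ⟨4, 0, 1, 0⟩, ⟨4, 0, 1, 0⟩, ⟨4, 0, 1, 0⟩, ⟨1, 1, 0, 0⟩, ⟨1, 1, 0, 0⟩, ⟨1, 1, 0, 0⟩, ⟨1, 1, 1, 3⟩] :=
  refuted_of_chk tr13 (cs := [⟨0, 1, 4, 1⟩, ⟨0, 1, 0, 16⟩, ⟨0, 1, 0, 16⟩, ⟨0, 1, 0, 16⟩, ⟨1, 0, 0, 16⟩, ⟨1, 0, 0, 16⟩, ⟨1, 0, 0, 16⟩, ⟨1, 1, 3, 25⟩])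
    (bs := [.both 65 63, .both 76 52, .both 76 52, .both 76 52, .both 76 52, .both 76 52, .both 76 52, .both 27 165])
    (by decide +kernel) (by decide +kernel) (by decide +kernel)

def tr14 : Tr :=
    (s 1 (s 5 (r 37) (s 2 (r 37) (s 3 (r 37) (s 4 (r 37) (l 61))))) (s 5 (r 37) (s 2 (r 37) (s 3 (r 37) (s 4 (r 37)
    (l 61))))))

theorem ref14 : Refuted false
    [⟨2, 0, 1, 1⟩, ⟨2, 0, 1, 0⟩, ⟨1, 1, 0, 0⟩, ⟨1, 1, 0, 0⟩, ⟨1, 1, 0, 0⟩, ⟨1, 1, 1, 3⟩] :=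
  refuted_of_chk tr14 (cs := [⟨0, 1, 2, 9⟩, ⟨0, 1, 0, 64⟩, ⟨1, 0, 0, 16⟩, ⟨1, 0, 0, 16⟩, ⟨1, 0, 0, 16⟩, ⟨1, 1, 3, 25⟩])
    (bs := [.both 13 51, .both 88 40, .both 76 52, .both 76 52, .both 76 52, .both 27 165])
    (by decide +kernel) (by decide +kernel) (by decide +kernel)

def tr15 : Tr :=
    (r 42)

theorem ref15 : Refuted true
    [⟨4, 0, 1, 1⟩, ⟨4, 0, 1, 0⟩, ⟨4, 0, 1, 0⟩, ⟨4, 0, 1, 0⟩, ⟨1, 1, 0, -1⟩, ⟨1, 1, 0, 0⟩, ⟨1, 1, 0, 1⟩, ⟨1, 1, 1, 3⟩] :=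
  refuted_of_chk tr15 (cs := [⟨0, 1, 4, 1⟩, ⟨0, 1, 0, 16⟩, ⟨0, 1, 0, 16⟩, ⟨0, 1, 0, 16⟩, ⟨1, 0, -1, 81⟩, ⟨1, 0, 0, 16⟩, ⟨1, 0, 1, 1⟩, ⟨1, 1, 3, 25⟩])
    (bs := [.both 65 63, .both 76 52, .both 76 52, .both 76 52, .both 87 41, .both 76 52, .both 65 63, .both 27 165])
    (by decide +kernel) (by decide +kernel) (by decide +kernel)

def tr16 : Tr :=
    (s 2 (r 37) (s 842 (s 1 (r 11) (s 833 (s 0 (s 616 (s 3 (s 4 (l 58) (s 5 (s 733 (r 36) (l 67)) (l 57))) (r 11)) (r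
    13)) (r 13)) (s 1345 (s 0 (r 11) (s 3 (s 4 (l 58) (s 1532 (l 58) (s 5 (s 1245 (l 57) (s 1123 (s 920 (r 13) (r
    11)) (r 11))) (l 57)))) (r 11))) (r 11)))) (s 1 (s 1354 (s 1217 (r 11) (s 0 (s 616 (r 11) (s 1729 (r 36) (s 3 (r
    37) (s 931 (r 11) (s 4 (s 4108 (l 66) (s 5 (r 37) (s 2349 (l 67) (r 37)))) (l 66)))))) (s 1729 (r 36) (s 3 (r 37)
    (s 931 (s 4 (s 5 (s 1944 (l 67) (r 11)) (s 2572 (l 61) (s 2241 (r 11) (s 3265 (r 11) (s 920 (s 2861 (l 67) (s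
    4108 (l 61) (s 4801 (r 11) (s 4397 (l 67) (s 5644 (l 61) (s 6849 (s 6445 (s 7692 (s 5825 (s 5421 (s 6668 (s 5313
    (r 11) (r 13)) (l 63)) (l 57)) (r 13)) (l 63)) (l 57)) (r 13))))))) (s 4801 (r 11) (s 6849 (r 11) (s 1432 (s 5933
    (l 67) (s 7180 (l 61) (s 9921 (r 11) (s 9005 (l 67) (s 10252 (l 61) (r 11)))))) (r 11))))))))) (s 3480 (l 66) (r
    11))) (s 4 (s 5 (r 37) (s 3084 (l 61) (s 2241 (s 920 (s 1837 (s 1443 (r 11) (r 13)) (r 36)) (r 36)) (s 3265 (s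
    1944 (s 2861 (s 1443 (s 4620 (s 920 (r 13) (r 11)) (l 63)) (s 3596 (l 61) (s 920 (r 13) (s 2349 (s 1955 (s 4620
    (s 2753 (r 11) (r 13)) (l 63)) (r 37)) (r 37))))) (r 37)) (l 57)) (s 920 (r 13) (s 4801 (s 3480 (s 3885 (s 1443
    (s 5644 (s 1432 (r 13) (s 3373 (s 5132 (s 3777 (r 11) (s 1944 (r 13) (s 2861 (s 4620 (s 4289 (r 11) (s 2456 (r
    13) (s 2349 (s 4108 (s 2968 (r 13) (r 11)) (l 63)) (r 37)))) (l 63)) (r 37)))) (l 63)) (r 37))) (l 63)) (r 13))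
    (r 37)) (l 57)) (s 1443 (s 6849 (s 5528 (s 5933 (s 7692 (s 1944 (r 13) (s 4909 (s 6668 (s 5825 (s 4504 (r 13) (l
    57)) (r 13)) (l 63)) (r 37))) (l 63)) (r 37)) (l 57)) (r 13)) (r 13)))))))) (s 3992 (l 66) (s 5 (r 37) (l
    61))))))))) (r 37)) (s 833 (r 13) (s 1354 (s 1345 (s 0 (s 616 (s 3 (r 37) (s 931 (r 11) (s 4 (r 13) (l 66)))) (r
    13)) (r 13)) (s 0 (s 616 (r 36) (s 1857 (r 13) (s 3 (r 37) (s 931 (s 4 (s 1128 (l 58) (s 5 (s 1548 (s 1245 (r 37)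
    (l 63)) (l 63)) (s 2572 (l 61) (s 3176 (l 57) (s 2369 (r 13) (s 3688 (l 57) (s 3393 (r 13) (s 4712 (l 57) (s 4929
    (r 13) (s 6248 (l 57) (s 6977 (s 5953 (r 13) (s 7272 (r 11) (s 10856 (s 4909 (s 6156 (s 6465 (s 8808 (s 2861 (s
    4108 (s 7784 (s 1837 (s 3084 (r 13) (r 11)) (l 57)) (s 1837 (l 67) (s 3084 (r 13) (s 8296 (s 2349 (s 3596 (r 13)
    (r 11)) (l 57)) (r 13))))) (l 63)) (l 57)) (r 13)) (r 11)) (l 63)) (l 57)) (s 4397 (l 67) (s 5644 (l 61) (s 6465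
    (r 13) (s 15976 (r 11) (s 9517 (l 67) (s 10764 (l 61) (s 23656 (r 11) (s 17197 (l 67) (s 18444 (l 61) (s 35432 (r
    11) (s 28973 (l 67) (s 30220 (l 61) (s 52840 (r 11) (s 46381 (l 67) (s 47628 (l 61) (s 78952 (r 11) (s 72493 (l
    67) (s 73740 (l 61) (s 118376 (r 11) (s 111917 (l 67) (s 113164 (l 61) (s 177256 (r 11) (s 170797 (l 67) (s
    172044 (l 61) (s 265832 (r 11) (s 259373 (l 67) (s 260620 (l 61) (s 398440 (r 11) (s 391981 (l 67) (s 393228 (l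
    61) (s 597608 (r 11) (s 591149 (l 67) (s 592396 (l 61) (s 896104 (s 889645 (s 890892 (s 716904 (s 710445 (s
    711692 (s 651880 (r 11) (s 645421 (l 67) (s 646668 (l 61) (r 11)))) (r 11)) (l 57)) (s 710445 (l 67) (s 711692 (l
    61) (s 796776 (s 790317 (s 791564 (s 754792 (s 748333 (s 749580 (s 735336 (s 728877 (s 730124 (s 726120 (r 11) (s
    719661 (l 67) (s 720908 (l 61) (s 730728 (r 11) (s 724269 (l 67) (s 725516 (l 61) (s 732776 (r 11) (s 726317 (l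
    67) (s 727564 (l 61) (s 733800 (r 11) (s 727341 (l 67) (s 728588 (l 61) (s 734312 (r 11) (s 727853 (l 67) (s
    729100 (l 61) (s 734824 (r 11) (r 13))))))))))))))))) (l 63)) (l 57)) (s 728877 (l 67) (s 730124 (r 13) (s 745064
    (s 738605 (s 739852 (s 739944 (s 733485 (s 734732 (r 13) (l 63)) (l 57)) (r 13)) (l 63)) (l 57)) (r 13))))) (l
    63)) (l 57)) (r 13)) (l 63)) (l 57)) (r 13))))) (l 63)) (l 57)) (r 13)))))))))))))))))))))))))))))))))))))) (r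
    11)))))))))))) (s 2369 (r 13) (s 5 (s 1757 (r 37) (s 3393 (s 1640 (s 2781 (s 1532 (s 1128 (s 2881 (r 13) (r 11))
    (r 13)) (r 37)) (l 67)) (r 13)) (s 4929 (s 3176 (s 4317 (s 3068 (s 1128 (r 11) (s 3805 (s 2556 (s 1640 (s 2269 (r
    37) (s 1020 (r 11) (s 3905 (r 13) (r 11)))) (s 3293 (s 2044 (s 3905 (r 13) (s 2152 (s 2269 (r 37) (s 1020 (r 11)
    (s 4417 (r 13) (r 11)))) (s 2781 (s 1532 (s 4417 (r 13) (s 1020 (r 11) (r 37))) (r 37)) (l 67)))) (l 61)) (l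
    67))) (l 61)) (l 67))) (l 61)) (l 67)) (l 67)) (s 1128 (r 11) (s 6977 (s 5224 (s 5853 (s 4604 (s 2152 (r 11) (s
    4829 (s 3580 (s 5953 (s 4200 (s 3805 (s 2556 (s 3176 (r 11) (s 2781 (r 36) (l 67))) (l 61)) (l 67)) (l 67)) (r
    11)) (l 61)) (l 67))) (l 61)) (l 67)) (l 67)) (r 11)))))) (l 61)))) (s 4 (s 5 (r 37) (s 3084 (l 61) (s 3176 (l
    57) (r 13)))) (s 2881 (r 13) (s 5 (r 37) (l 61)))))))) (s 1857 (r 13) (s 3 (r 37) (s 931 (s 4 (l 58) (s 1020 (l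
    58) (s 5 (s 2269 (r 37) (s 2369 (r 13) (s 2781 (r 37) (s 1532 (l 63) (s 3393 (r 13) (s 3805 (l 57) (s 2556 (l 63)
    (s 920 (r 13) (s 4317 (l 57) (s 3068 (l 63) (s 4929 (r 13) (s 5853 (l 57) (s 4604 (l 63) (s 6977 (s 1432 (r 13)
    (s 6365 (l 57) (s 5116 (l 63) (s 1944 (r 13) (s 6877 (l 57) (s 5628 (l 63) (s 2456 (r 13) (s 7389 (l 57) (s 6140
    (l 63) (s 3480 (r 13) (s 8413 (l 57) (s 7164 (l 63) (s 5953 (r 13) (s 9437 (l 57) (s 8188 (l 63) (s 5016 (r 13)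
    (s 10973 (l 57) (s 9724 (l 63) (s 7064 (r 13) (s 13021 (l 57) (s 11772 (l 63) (s 10136 (r 13) (s 16093 (l 57) (s
    14844 (l 63) (s 14744 (r 13) (s 20701 (l 57) (s 19452 (l 63) (s 6465 (r 13) (s 21213 (l 57) (s 19964 (l 63) (s
    21912 (r 13) (s 28381 (l 57) (s 27132 (l 63) (s 32664 (r 13) (s 39133 (l 57) (s 37884 (l 63) (s 48536 (r 13) (s
    55005 (l 57) (s 53756 (l 63) (s 72600 (r 13) (s 79069 (l 57) (s 77820 (l 63) (s 108440 (r 13) (s 114909 (l 57) (s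
    113660 (l 63) (r 13)))))))))))))))))))))))))))))))))))))))))))))) (s 7901 (l 57) (s 6652 (l 63) (s 1432 (s 10049
    (r 13) (s 10973 (l 57) (s 9724 (l 63) (s 14657 (r 13) (s 15581 (l 57) (s 14332 (l 63) (s 21825 (r 13) (s 22749 (l
    57) (s 21500 (l 63) (s 32577 (r 13) (s 33501 (l 57) (s 32252 (l 63) (s 48449 (r 13) (s 49373 (l 57) (s 48124 (l
    63) (s 72513 (r 13) (s 73437 (l 57) (s 72188 (l 63) (s 108353 (r 13) (s 109277 (l 57) (s 108028 (l 63) (s 162113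
    (r 13) (s 163037 (l 57) (s 161788 (l 63) (s 243009 (r 13) (s 243933 (l 57) (s 242684 (l 63) (s 364353 (r 13) (s
    365277 (l 57) (s 364028 (l 63) (s 546113 (r 13) (s 547037 (l 57) (s 545788 (l 63) (s 819009 (s 819933 (s 818684
    (s 655169 (s 656093 (s 654844 (s 595777 (s 596701 (s 595452 (s 569665 (r 13) (s 570589 (l 57) (s 569340 (l 63) (s
    582465 (r 13) (s 583389 (l 57) (s 582140 (l 63) (s 589121 (s 590045 (s 588796 (s 585537 (r 13) (s 586461 (l 57)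
    (s 585212 (l 63) (s 587073 (s 587997 (s 586748 (s 586049 (r 13) (r 11)) (l 61)) (l 67)) (r 11))))) (l 61)) (l
    67)) (r 11)))))))) (l 61)) (l 67)) (r 11)) (l 61)) (l 67)) (r 11)) (l 61)) (l 67)) (r
    11))))))))))))))))))))))))))))))))))) (s 8413 (l 57) (s 7164 (l 63) (s 10049 (s 1944 (r 13) (s 8925 (l 57) (s
    7676 (l 63) (s 2456 (r 13) (s 9437 (l 57) (s 8188 (l 63) (s 3480 (s 13021 (s 11772 (s 8513 (r 13) (s 10973 (l 57)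
    (s 9724 (l 63) (s 9025 (r 13) (s 11485 (l 57) (s 10236 (l 63) (s 2968 (r 13) (s 11997 (l 57) (s 10748 (l 63) (s
    9537 (r 13) (r 11))))))))))) (l 61)) (l 67)) (s 10461 (l 57) (s 9212 (l 63) (s 5016 (s 14557 (s 13308 (s 8513 (s
    13021 (s 11772 (s 7489 (r 13) (s 10973 (l 57) (s 9724 (l 63) (r 13)))) (r 13)) (l 67)) (s 11997 (l 57) (s 10748
    (l 63) (s 9025 (s 13533 (s 12284 (s 3992 (r 13) (r 11)) (l 61)) (l 67)) (r 11))))) (l 61)) (l 67)) (s 11997 (l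
    57) (s 10748 (l 63) (s 8513 (s 7064 (s 15069 (s 13820 (s 7489 (r 13) (s 12509 (l 57) (s 11260 (l 63) (s 8001 (s
    14557 (s 13308 (s 6040 (r 13) (s 13533 (l 57) (s 12284 (l 63) (s 6552 (r 13) (r 11))))) (l 61)) (l 67)) (r
    11))))) (l 61)) (l 67)) (s 14045 (l 57) (s 12796 (l 63) (s 10136 (s 18141 (s 16892 (s 7489 (r 13) (r 11)) (l 61))
    (l 67)) (s 17117 (l 57) (s 15868 (l 63) (s 7489 (s 14744 (s 21725 (s 20476 (s 12184 (s 19165 (s 17916 (s 11160 (r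
    13) (s 18141 (l 57) (s 16892 (l 63) (s 11672 (r 13) (r 11))))) (l 61)) (l 67)) (r 11)) (l 61)) (l 67)) (r 11)) (r
    11)))))))) (r 11)))))))))))))) (s 11485 (l 57) (s 10236 (l 63) (s 14657 (s 1944 (r 13) (s 11997 (l 57) (s 10748
    (l 63) (s 2456 (s 16605 (s 15356 (s 12097 (r 13) (r 11)) (l 61)) (l 67)) (s 12509 (l 57) (s 11260 (l 63) (s 3480
    (s 17629 (s 16380 (s 12097 (s 15069 (s 13820 (s 11073 (s 14045 (s 12796 (s 2968 (s 13533 (s 12284 (s 10561 (r 13)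
    (r 11)) (l 61)) (l 67)) (r 11)) (l 61)) (l 67)) (r 11)) (l 61)) (l 67)) (r 11)) (l 61)) (l 67)) (r 11)))))))) (s
    16093 (l 57) (s 14844 (l 63) (s 1944 (s 21825 (s 23261 (s 22012 (s 17729 (r 13) (r 11)) (l 61)) (l 67)) (r 11))
    (r 11))))))))))))))))))))))))))) (l 61)))) (r 13)))))) (r 37))))))

theorem ref16 : Refuted false
    [⟨2, 0, 1, 1⟩, ⟨2, 0, 1, 0⟩, ⟨1, 1, 0, -1⟩, ⟨1, 1, 0, 0⟩, ⟨1, 1, 0, 1⟩, ⟨1, 1, 1, 3⟩] :=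
  refuted_of_chk tr16 (cs := [⟨0, 1, 2, 9⟩, ⟨0, 1, 0, 64⟩, ⟨1, 0, -1, 81⟩, ⟨1, 0, 0, 16⟩, ⟨1, 0, 1, 1⟩, ⟨1, 1, 3, 25⟩])
    (bs := [.both 13 51, .both 88 40, .both 87 41, .both 76 52, .both 65 63, .both 27 165])
    (by decide +kernel) (by decide +kernel) (by decide +kernel)

def tr17 : Tr :=
    (s 3 (r 37) (s 1147 (s 4 (r 9) (s 2 (s 1458 (r 19) (s 932 (r 5) (r 9))) (r 7))) (s 4 (r 19) (s 2 (r 19) (l
    61)))))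

theorem ref17 : Refuted true
    [⟨2, 0, 1, 2⟩, ⟨2, 0, 1, 1⟩, ⟨1, 1, 0, 2⟩, ⟨1, 1, 1, 1⟩, ⟨2, 1, 0, 0⟩] :=
  refuted_of_chk tr17 (cs := [⟨0, 1, 4, 4⟩, ⟨0, 1, 2, 9⟩, ⟨1, 0, 2, 36⟩, ⟨1, 1, 1, 225⟩, ⟨2, 0, 0, 16⟩])
    (bs := [.both 66 126, .both 13 51, .both 54 138, .both 49 79, .both 76 52])
    (by decide +kernel) (by decide +kernel) (by decide +kernel)

def tr18 : Tr :=
    (s 0 (s 616 (r 36) (r 13)) (r 13))

theorem ref18 : Refuted false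
    [⟨4, 0, 2, 1⟩, ⟨1, 1, 0, 1⟩, ⟨1, 1, 1, 2⟩, ⟨2, 1, 0, 0⟩] :=
  refuted_of_chk tr18 (cs := [⟨0, 2, 4, 9⟩, ⟨1, 0, 1, 1⟩, ⟨1, 1, 2, 100⟩, ⟨2, 0, 0, 16⟩])
    (bs := [.both 13 51, .both 65 63, .both 38 90, .both 76 52])
    (by decide +kernel) (by decide +kernel) (by decide +kernel)

def tr19 : Tr :=
    (s 6 (r 13) (s 934 (s 2 (s 3 (s 1122 (s 1123 (s 5 (r 37) (s 4 (s 0 (r 11) (s 1 (r 11) (l 57))) (r 11))) (r 13))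
    (r 13)) (r 13)) (r 13)) (r 13)))

theorem ref19 : Refuted false
    [⟨4, 0, 1, 1⟩, ⟨4, 0, 1, 1⟩, ⟨4, 0, 1, 0⟩, ⟨4, 0, 1, 0⟩, ⟨1, 1, 0, 1⟩, ⟨1, 1, 1, 2⟩, ⟨2, 1, 0, 0⟩] :=
  refuted_of_chk tr19 (cs := [⟨0, 1, 4, 1⟩, ⟨0, 1, 4, 1⟩, ⟨0, 1, 0, 16⟩, ⟨0, 1, 0, 16⟩, ⟨1, 0, 1, 1⟩, ⟨1, 1, 2, 100⟩, ⟨2, 0, 0, 16⟩])
    (bs := [.both 65 63, .both 65 63, .both 76 52, .both 76 52, .both 65 63, .both 38 90, .both 76 52])
    (by decide +kernel) (by decide +kernel) (by decide +kernel)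

def tr20 : Tr :=
    (s 4 (s 0 (s 1 (s 616 (s 617 (r 36) (r 13)) (r 13)) (r 13)) (r 13)) (s 0 (s 1 (s 616 (s 617 (r 11) (s 932 (r 11)
    (s 3 (r 37) (s 2 (s 2570 (l 61) (s 1444 (s 1129 (r 11) (s 1235 (l 67) (r 37))) (r 13))) (l 61))))) (s 617 (s 932
    (r 11) (s 3 (r 37) (s 2 (s 2570 (l 61) (s 1444 (s 1128 (r 11) (s 1235 (l 67) (r 37))) (r 13))) (l 61)))) (r 13)))
    (s 616 (s 932 (r 11) (r 13)) (r 13))) (s 1 (s 617 (s 932 (r 11) (r 13)) (r 13)) (r 13))))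

theorem ref20 : Refuted false
    [⟨2, 0, 1, 1⟩, ⟨2, 0, 1, 1⟩, ⟨1, 1, 0, 1⟩, ⟨1, 1, 1, 2⟩, ⟨2, 1, 0, 0⟩] :=
  refuted_of_chk tr20 (cs := [⟨0, 1, 2, 9⟩, ⟨0, 1, 2, 9⟩, ⟨1, 0, 1, 1⟩, ⟨1, 1, 2, 100⟩, ⟨2, 0, 0, 16⟩])
    (bs := [.both 13 51, .both 13 51, .both 65 63, .both 38 90, .both 76 52])
    (by decide +kernel) (by decide +kernel) (by decide +kernel)

def tr21 : Tr :=
    (s 1 (s 4 (r 13) (s 1217 (s 932 (r 11) (s 0 (s 3 (r 37) (s 1235 (l 67) (r 37))) (s 3 (r 37) (l 57)))) (s 932 (s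
    1729 (s 0 (r 11) (s 3 (r 37) (l 57))) (r 13)) (r 13)))) (r 13))

theorem ref21 : Refuted false
    [⟨2, 0, 1, 2⟩, ⟨2, 0, 1, 0⟩, ⟨1, 1, 0, 1⟩, ⟨1, 1, 1, 2⟩, ⟨2, 1, 0, 0⟩] :=
  refuted_of_chk tr21 (cs := [⟨0, 1, 4, 4⟩, ⟨0, 1, 0, 64⟩, ⟨1, 0, 1, 1⟩, ⟨1, 1, 2, 100⟩, ⟨2, 0, 0, 16⟩])
    (bs := [.both 66 126, .both 88 40, .both 65 63, .both 38 90, .both 76 52])
    (by decide +kernel) (by decide +kernel) (by decide +kernel)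

def tr22 : Tr :=
    (s 6 (r 37) (s 5 (r 37) (s 4 (r 37) (l 61))))

theorem ref22 : Refuted false
    [⟨4, 0, 1, 1⟩, ⟨4, 0, 1, 0⟩, ⟨4, 0, 1, 0⟩, ⟨4, 0, 1, 0⟩, ⟨1, 1, 0, 0⟩, ⟨1, 1, 1, 3⟩, ⟨2, 1, 0, 0⟩] :=
  refuted_of_chk tr22 (cs := [⟨0, 1, 4, 1⟩, ⟨0, 1, 0, 16⟩, ⟨0, 1, 0, 16⟩, ⟨0, 1, 0, 16⟩, ⟨1, 0, 0, 16⟩, ⟨1, 1, 3, 25⟩, ⟨2, 0, 0, 16⟩])
    (bs := [.both 65 63, .both 76 52, .both 76 52, .both 76 52, .both 76 52, .both 27 165, .both 76 52])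
    (by decide +kernel) (by decide +kernel) (by decide +kernel)

def tr23 : Tr :=
    (s 1 (s 4 (r 37) (s 3 (r 37) (s 2 (r 37) (l 61)))) (s 4 (r 37) (s 3 (r 37) (s 2 (r 37) (l 61)))))

theorem ref23 : Refuted false
    [⟨2, 0, 1, 1⟩, ⟨2, 0, 1, 0⟩, ⟨1, 1, 0, 0⟩, ⟨1, 1, 1, 3⟩, ⟨2, 1, 0, 0⟩] :=
  refuted_of_chk tr23 (cs := [⟨0, 1, 2, 9⟩, ⟨0, 1, 0, 64⟩, ⟨1, 0, 0, 16⟩, ⟨1, 1, 3, 25⟩, ⟨2, 0, 0, 16⟩])
    (bs := [.both 13 51, .both 88 40, .both 76 52, .both 27 165, .both 76 52])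
    (by decide +kernel) (by decide +kernel) (by decide +kernel)

def tr24 : Tr :=
    (r 13)

theorem ref24 : Refuted true
    [⟨4, 0, 1, 1⟩, ⟨4, 0, 1, 1⟩, ⟨4, 0, 1, 1⟩, ⟨4, 0, 1, 0⟩, ⟨1, 1, 0, 0⟩, ⟨1, 1, 1, 1⟩, ⟨2, 1, 0, 1⟩] :=
  refuted_of_chk tr24 (cs := [⟨0, 1, 4, 1⟩, ⟨0, 1, 4, 1⟩, ⟨0, 1, 4, 1⟩, ⟨0, 1, 0, 16⟩, ⟨1, 0, 0, 16⟩, ⟨1, 1, 1, 225⟩, ⟨2, 0, 2, 1⟩])
    (bs := [.both 65 63, .both 65 63, .both 65 63, .both 76 52, .both 76 52, .both 49 79, .both 65 63])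
    (by decide +kernel) (by decide +kernel) (by decide +kernel)

def tr25 : Tr :=
    (s 1 (s 617 (s 2 (r 13) (s 930 (s 0 (s 1040 (r 11) (s 3 (r 37) (s 4 (s 1036 (l 66) (s 1552 (r 11) (s 1147 (l 67)
    (s 2064 (r 11) (s 2171 (l 67) (s 1548 (l 61) (s 2683 (l 63) (r 37)))))))) (l 61)))) (s 3 (r 37) (l 57))) (r 13)))
    (r 13)) (r 13))

theorem ref25 : Refuted false
    [⟨2, 0, 1, 2⟩, ⟨2, 0, 1, 1⟩, ⟨1, 1, 0, 0⟩, ⟨1, 1, 1, 1⟩, ⟨2, 1, 0, 1⟩] :=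
  refuted_of_chk tr25 (cs := [⟨0, 1, 4, 4⟩, ⟨0, 1, 2, 9⟩, ⟨1, 0, 0, 16⟩, ⟨1, 1, 1, 225⟩, ⟨2, 0, 2, 1⟩])
    (bs := [.both 66 126, .both 13 51, .both 76 52, .both 49 79, .both 65 63])
    (by decide +kernel) (by decide +kernel) (by decide +kernel)

def tr26 : Tr :=
    (s 1 (s 0 (s 616 (r 36) (r 13)) (r 13)) (s 841 (r 11) (s 0 (s 616 (r 11) (s 1353 (s 1128 (s 3 (s 1035 (r 13) (s
    1547 (r 13) (l 58))) (r 11)) (r 13)) (r 13))) (r 13))))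

theorem ref26 : Refuted false
    [⟨4, 0, 2, 1⟩, ⟨1, 1, 0, -1⟩, ⟨1, 1, 1, 2⟩, ⟨2, 1, 0, 1⟩] :=
  refuted_of_chk tr26 (cs := [⟨0, 2, 4, 9⟩, ⟨1, 0, -1, 81⟩, ⟨1, 1, 2, 100⟩, ⟨2, 0, 2, 1⟩])
    (bs := [.both 13 51, .both 87 41, .both 38 90, .both 65 63])
    (by decide +kernel) (by decide +kernel) (by decide +kernel)

def tr27 : Tr :=
    (s 4 (r 13) (s 844 (r 11) (s 5 (r 37) (s 1237 (r 7) (r 18)))))

theorem ref27 : Refuted true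
    [⟨4, 0, 1, 1⟩, ⟨4, 0, 1, 1⟩, ⟨4, 0, 1, 0⟩, ⟨4, 0, 1, 0⟩, ⟨1, 1, 0, -1⟩, ⟨1, 1, 1, 2⟩, ⟨2, 1, 0, 1⟩] :=
  refuted_of_chk tr27 (cs := [⟨0, 1, 4, 1⟩, ⟨0, 1, 4, 1⟩, ⟨0, 1, 0, 16⟩, ⟨0, 1, 0, 16⟩, ⟨1, 0, -1, 81⟩, ⟨1, 1, 2, 100⟩, ⟨2, 0, 2, 1⟩])
    (bs := [.both 65 63, .both 65 63, .both 76 52, .both 76 52, .both 87 41, .both 38 90, .both 65 63])
    (by decide +kernel) (by decide +kernel) (by decide +kernel)

def tr28 : Tr :=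
    (s 2 (s 0 (s 1 (s 4 (s 3 (r 37) (s 1747 (l 63) (r 37))) (s 1210 (r 37) (s 3 (r 37) (s 1722 (r 37) (s 616 (s 617
    (r 11) (r 13)) (r 13)))))) (r 13)) (r 13)) (s 842 (r 11) (s 0 (s 1 (s 4 (s 3 (r 37) (s 1036 (l 61) (s 1354 (s
    1235 (l 63) (s 616 (r 11) (s 617 (r 11) (s 1128 (s 1129 (s 1747 (s 1548 (r 13) (l 63)) (l 57)) (r 13)) (r 13)))))
    (s 616 (s 617 (r 11) (s 1866 (r 11) (s 1548 (l 61) (s 2378 (r 11) (s 3402 (s 1129 (r 11) (s 1235 (l 67) (r 37)))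
    (r 13)))))) (s 617 (s 1866 (r 11) (s 1548 (l 61) (s 2378 (r 11) (s 3402 (s 1128 (r 11) (s 1235 (l 67) (r 37))) (r
    13))))) (r 13)))))) (l 66)) (s 4 (s 3 (r 37) (s 1036 (l 61) (s 1128 (l 57) (r 13)))) (s 1945 (l 66) (s 3 (r 37)
    (l 61))))) (s 1 (s 4 (s 3 (r 37) (s 1036 (l 61) (s 1129 (l 57) (r 13)))) (s 1944 (l 66) (s 3 (r 37) (l 61)))) (r
    13)))))

theorem ref28 : Refuted false
    [⟨2, 0, 1, 1⟩, ⟨2, 0, 1, 1⟩, ⟨1, 1, 0, -1⟩, ⟨1, 1, 1, 2⟩, ⟨2, 1, 0, 1⟩] :=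
  refuted_of_chk tr28 (cs := [⟨0, 1, 2, 9⟩, ⟨0, 1, 2, 9⟩, ⟨1, 0, -1, 81⟩, ⟨1, 1, 2, 100⟩, ⟨2, 0, 2, 1⟩])
    (bs := [.both 13 51, .both 13 51, .both 87 41, .both 38 90, .both 65 63])
    (by decide +kernel) (by decide +kernel) (by decide +kernel)

def tr29 : Tr :=
    (s 2 (r 13) (s 3 (r 17) (s 842 (r 17) (s 1 (s 1354 (s 1235 (r 7) (r 17)) (s 1235 (r 7) (s 1217 (r 36) (r 13))))
    (r 13)))))

theorem ref29 : Refuted true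
    [⟨2, 0, 1, 2⟩, ⟨2, 0, 1, 0⟩, ⟨1, 1, 0, -1⟩, ⟨1, 1, 1, 2⟩, ⟨2, 1, 0, 1⟩] :=
  refuted_of_chk tr29 (cs := [⟨0, 1, 4, 4⟩, ⟨0, 1, 0, 64⟩, ⟨1, 0, -1, 81⟩, ⟨1, 1, 2, 100⟩, ⟨2, 0, 2, 1⟩])
    (bs := [.both 66 126, .both 88 40, .both 87 41, .both 38 90, .both 65 63])
    (by decide +kernel) (by decide +kernel) (by decide +kernel)

def tr30 : Tr :=
    (s 5 (r 37) (s 0 (s 616 (r 35) (s 829 (s 3 (s 2 (r 11) (s 4 (l 63) (s 1123 (l 61) (s 1 (s 1442 (l 67) (r 11)) (s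
    930 (s 1128 (r 11) (s 1529 (l 67) (s 1640 (s 2041 (s 1635 (r 13) (s 1020 (r 11) (s 2147 (s 1532 (r 11) (r 13)) (r
    11)))) (l 57)) (s 2553 (l 67) (s 1635 (r 13) (s 1020 (l 63) (s 2152 (s 3065 (s 2147 (r 13) (s 1532 (l 63) (s 3171
    (r 13) (s 2556 (l 63) (s 4707 (s 4092 (s 3683 (r 13) (r 11)) (l 61)) (r 11)))))) (l 57)) (s 3577 (l 67) (s 2147
    (r 13) (s 1532 (l 63) (s 3176 (s 5113 (s 3171 (r 13) (s 2556 (l 63) (s 4707 (r 13) (s 4092 (l 63) (s 6755 (r 13)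
    (s 6140 (l 63) (s 9827 (s 9212 (s 2664 (s 4089 (s 8291 (r 13) (s 7676 (l 63) (s 8803 (r 13) (s 8188 (l 63) (s
    9315 (r 13) (r 11)))))) (l 57)) (r 13)) (l 61)) (s 9212 (l 63) (s 14435 (s 13820 (s 2664 (r 11) (r 13)) (l 61))
    (s 13820 (l 63) (s 2664 (r 11) (s 4601 (l 67) (s 21603 (r 13) (s 20988 (l 63) (s 32355 (r 13) (s 31740 (l 63) (s
    48227 (r 13) (s 47612 (l 63) (s 72291 (r 13) (s 71676 (l 63) (s 108131 (r 13) (s 107516 (l 63) (s 161891 (s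
    161276 (s 129635 (s 129020 (s 117859 (s 117244 (s 112739 (r 13) (s 112124 (l 63) (s 115299 (r 13) (s 114684 (l
    63) (s 116323 (r 13) (r 11)))))) (l 61)) (r 11)) (l 61)) (r 11)) (l 61)) (r 11)))))))))))))))))))))))) (l 57)) (r
    13)))))))))))) (s 1128 (r 11) (s 1442 (s 1017 (l 67) (s 1640 (r 11) (s 2041 (l 67) (r 11)))) (r 11)))))))) (s 2
    (r 11) (s 4 (s 1036 (l 61) (s 1 (s 1442 (l 67) (r 11)) (s 931 (r 11) (s 1548 (l 61) (s 930 (s 1128 (r 11) (s 1529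
    (l 67) (s 1443 (r 11) (s 2060 (l 61) (s 1640 (r 11) (s 2553 (l 67) (s 1955 (r 11) (s 2572 (l 61) (s 2152 (r 11)
    (s 3577 (l 67) (s 3176 (s 5113 (s 2467 (r 11) (s 3084 (l 61) (s 3491 (r 11) (s 4108 (l 61) (s 5027 (r 11) (s 5644
    (l 61) (s 7075 (r 11) (s 7692 (l 61) (s 10147 (r 11) (s 10764 (l 61) (s 2664 (r 11) (s 4601 (l 67) (r
    11))))))))))))) (l 57)) (s 5625 (l 67) (s 2467 (r 11) (s 3084 (l 61) (s 3491 (s 4108 (s 4712 (r 11) (s 8697 (l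
    67) (s 6760 (r 11) (s 12793 (l 67) (s 9832 (r 11) (s 18937 (l 67) (s 14440 (s 27641 (s 2979 (r 11) (s 3596 (l 61)
    (s 11880 (r 11) (s 23033 (l 67) (s 12904 (r 11) (s 25081 (l 67) (s 13416 (r 11) (r 13)))))))) (l 57)) (s 28153 (l
    67) (s 21608 (s 41977 (s 2979 (r 11) (r 13)) (l 57)) (s 42489 (l 67) (s 2979 (s 3596 (s 32360 (r 11) (s 63993 (l
    67) (s 48232 (r 11) (s 95737 (l 67) (s 72296 (s 143353 (s 57960 (r 11) (s 115193 (l 67) (r 11))) (r 11)) (s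
    143865 (l 67) (s 108136 (s 215033 (s 86632 (s 172025 (s 78952 (s 156665 (s 75368 (s 149497 (s 73832 (s 146425 (s
    72808 (r 11) (r 13)) (l 57)) (r 13)) (l 57)) (r 13)) (l 57)) (r 13)) (l 57)) (r 13)) (l 57)) (r 13)))))))) (l
    63)) (r 13)))))))))))) (l 63)) (s 4108 (l 61) (s 4712 (s 8185 (s 5027 (r 11) (s 5644 (l 61) (s 7075 (s 7692 (s
    3688 (r 11) (s 6649 (l 67) (s 6051 (r 11) (s 6668 (l 61) (r 11))))) (r 11)) (s 7692 (l 61) (s 10147 (s 10764 (s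
    3688 (r 11) (s 6649 (l 67) (s 8611 (s 9228 (s 4200 (r 11) (r 13)) (l 63)) (s 9228 (l 61) (s 4200 (s 7161 (s 9123
    (r 11) (r 13)) (l 57)) (r 13)))))) (l 63)) (s 10764 (l 61) (s 14755 (s 15372 (s 3688 (r 11) (r 13)) (l 63)) (s
    15372 (l 61) (s 3688 (s 6137 (s 21923 (s 22540 (s 17827 (s 18444 (s 16291 (r 11) (s 16908 (l 61) (s 16803 (r 11)
    (r 13)))) (l 63)) (r 13)) (l 63)) (r 13)) (l 57)) (r 13)))))))))) (l 57)) (s 8697 (l 67) (s 5027 (s 5644 (s 6760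
    (s 12281 (s 4003 (r 11) (s 4620 (l 61) (s 5736 (r 11) (s 10745 (l 67) (s 4515 (r 11) (r 13)))))) (l 57)) (s 12793
    (l 67) (s 9832 (s 18425 (s 4003 (s 4620 (s 8296 (r 11) (s 15865 (l 67) (s 8808 (r 11) (r 13)))) (l 63)) (s 4620
    (r 13) (s 8296 (s 15353 (r 13) (l 57)) (r 13)))) (l 57)) (r 13)))) (l 63)) (s 5644 (l 61) (s 6760 (s 12281 (s
    7075 (s 7692 (s 5736 (s 10233 (s 6051 (s 6668 (s 5224 (r 11) (r 13)) (l 63)) (r 13)) (l 57)) (r 13)) (l 63)) (r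
    13)) (l 57)) (r 13)))))))))))))))))))))) (r 11)))))) (l 61)))) (s 3 (r 37) (s 2 (s 4 (s 2060 (l 61) (s 1 (s 2365
    (l 67) (r 37)) (s 1341 (s 1017 (l 67) (s 931 (s 2572 (s 1128 (r 11) (s 2041 (l 67) (s 1122 (s 1640 (r 11) (s 3065
    (l 67) (s 2152 (r 11) (s 4089 (l 67) (s 3176 (r 11) (s 6137 (l 67) (s 4712 (r 11) (s 9209 (l 67) (s 6760 (r 11)
    (s 13305 (l 67) (s 9832 (r 11) (s 19449 (l 67) (s 14440 (s 28153 (s 11880 (r 11) (s 23545 (l 67) (r 11))) (r 11))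
    (s 28665 (r 13) (s 21608 (s 42489 (r 13) (l 57)) (r 13)))))))))))))))) (s 2553 (l 67) (s 1640 (s 1634 (r 11) (r
    13)) (r 13)))))) (l 63)) (s 2572 (l 61) (s 1128 (s 1122 (s 1529 (s 1443 (r 11) (s 3084 (r 13) (s 1955 (s 3596 (r
    13) (l 63)) (r 13)))) (l 57)) (r 13)) (r 13))))) (r 37)))) (l 61)) (s 4 (s 2060 (l 61) (s 1 (s 1341 (s 930 (r 13)
    (s 931 (s 2572 (s 1128 (s 1442 (r 13) (s 1033 (l 57) (s 1954 (r 13) (s 1545 (l 57) (s 2466 (r 13) (s 2057 (l 57)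
    (s 3490 (r 13) (s 3081 (l 57) (s 5026 (r 13) (s 4617 (l 57) (s 7074 (r 13) (s 6665 (l 57) (s 10146 (s 9737 (s
    8610 (r 13) (s 8201 (l 57) (s 9122 (r 13) (r 11)))) (l 67)) (r 11)))))))))))))) (r 13)) (l 63)) (r 13))) (r 37))
    (s 1128 (l 57) (r 13)))) (l 61)))))) (s 829 (s 3 (s 2 (s 4 (l 63) (s 1123 (l 61) (s 1 (s 920 (s 1033 (s 1122 (r
    11) (l 67)) (l 67)) (s 1122 (r 11) (s 1432 (s 1545 (s 2146 (r 11) (l 67)) (l 67)) (r 11)))) (s 1634 (l 57) (s 920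
    (r 13) (s 2658 (r 11) (s 1432 (s 1635 (s 1020 (s 3682 (r 11) (s 1529 (l 67) (s 5218 (r 11) (s 3065 (l 67) (s 7778
    (r 11) (s 5625 (l 67) (r 11))))))) (l 61)) (r 11)) (r 11)))))))) (s 4 (l 63) (s 1123 (l 61) (s 1 (s 1545 (l 57)
    (s 920 (r 13) (s 2569 (l 57) (s 930 (r 13) (s 3081 (l 57) (s 1432 (s 1442 (r 13) (s 3593 (l 57) (s 1635 (s 1020
    (s 1954 (r 13) (s 4105 (l 57) (s 2466 (r 13) (s 4617 (l 57) (s 3490 (r 13) (s 5641 (l 57) (s 5026 (r 13) (s 7177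
    (l 57) (s 7074 (r 13) (s 9225 (l 57) (s 10146 (r 13) (s 12297 (l 57) (s 14754 (r 13) (s 16905 (l 57) (s 21922 (r
    13) (s 24073 (l 57) (s 32674 (r 13) (s 34825 (l 57) (s 48546 (r 13) (s 50697 (l 57) (s 72610 (r 13) (s 74761 (l
    57) (s 108450 (s 110601 (s 86946 (s 89097 (s 79266 (r 13) (s 81417 (l 57) (s 82850 (s 85001 (s 80802 (r 13) (s
    82953 (l 57) (s 81826 (r 13) (r 11)))) (l 67)) (r 11)))) (l 67)) (r 11)) (l 67)) (r 11)))))))))))))))))))))))) (r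
    13)) (s 1020 (l 63) (s 1954 (s 4105 (s 2147 (r 13) (s 1532 (l 63) (s 3171 (r 13) (s 2556 (l 63) (s 4707 (r 13) (s
    4092 (l 63) (s 6755 (r 13) (s 6140 (l 63) (s 9827 (s 9212 (s 8291 (r 13) (s 7676 (l 63) (s 8803 (r 13) (s 8188 (l
    63) (s 9315 (r 13) (r 11)))))) (l 61)) (r 11)))))))))) (l 67)) (s 4105 (l 57) (s 2147 (s 1532 (s 2466 (r 13) (s
    4617 (l 57) (s 3490 (r 13) (s 5641 (l 57) (s 5026 (s 7177 (s 4002 (r 13) (s 6153 (l 57) (s 4514 (r 13) (r 11))))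
    (l 67)) (r 11)))))) (l 61)) (s 1532 (l 63) (s 2466 (s 4617 (s 3171 (r 13) (s 2556 (l 63) (s 4707 (s 4092 (s 3683
    (r 13) (r 11)) (l 61)) (r 11)))) (l 67)) (s 4617 (l 57) (s 3171 (s 2556 (s 3490 (s 5641 (s 2659 (s 2044 (s 2978
    (r 13) (r 11)) (l 61)) (r 11)) (l 67)) (r 11)) (l 61)) (r 11)))))))))))) (s 4105 (l 57) (s 1442 (s 1635 (s 1020
    (s 1944 (r 13) (s 5129 (l 57) (s 2456 (r 13) (s 6153 (l 57) (s 3480 (r 13) (s 8201 (l 57) (s 5016 (r 13) (s 11273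
    (l 57) (s 7064 (r 13) (s 15369 (r 11) (s 10136 (s 21001 (r 11) (l 67)) (r 11)))))))))))) (l 61)) (s 1020 (l 63)
    (s 1944 (s 4617 (s 2147 (r 13) (s 1532 (l 63) (s 3171 (r 13) (s 2556 (l 63) (s 4707 (r 13) (s 4092 (l 63) (s 6755
    (s 6140 (s 5731 (r 13) (s 5116 (l 63) (s 6243 (r 13) (r 11)))) (l 61)) (r 11)))))))) (l 67)) (s 5129 (l 57) (s
    2147 (s 1532 (s 2456 (r 13) (s 6153 (l 57) (s 3480 (s 7689 (s 2968 (r 13) (r 11)) (l 67)) (r 11)))) (l 61)) (s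
    1532 (l 63) (s 2456 (s 5641 (s 3171 (s 2556 (s 2659 (r 13) (r 11)) (l 61)) (r 11)) (l 67)) (r 11)))))))) (s 4617
    (l 57) (s 1635 (s 1020 (s 1944 (s 1954 (r 13) (s 5129 (l 57) (s 2466 (r 13) (r 11)))) (s 5641 (l 57) (s 1954 (s
    2456 (r 13) (r 11)) (r 11)))) (l 61)) (s 1020 (r 11) (s 1944 (s 1954 (s 5129 (s 2147 (r 13) (r 11)) (l 67)) (r
    11)) (r 11))))))))))))) (l 57))))) (s 2 (s 4 (s 1036 (l 61) (s 1 (s 920 (s 1033 (s 1122 (r 11) (l 67)) (l 67)) (r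
    11)) (s 1634 (l 57) (s 920 (s 931 (r 11) (s 1548 (l 61) (s 1443 (r 11) (s 2060 (l 61) (s 1955 (s 2572 (s 2146 (r
    11) (s 1017 (l 67) (s 3170 (r 11) (s 2041 (l 67) (s 4706 (r 11) (s 3577 (l 67) (s 6754 (r 11) (s 5625 (l 67) (s
    9826 (r 11) (s 8697 (l 67) (s 14434 (s 13305 (s 11874 (s 10745 (s 10850 (s 9721 (s 10338 (r 11) (r 13)) (r 11))
    (r 13)) (l 57)) (r 13)) (l 57)) (r 13)))))))))))) (l 63)) (s 2572 (l 61) (s 2146 (s 1017 (s 2467 (r 11) (s 3084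
    (l 61) (s 3491 (r 11) (s 4108 (l 61) (s 5027 (s 5644 (s 4003 (r 11) (r 13)) (l 63)) (r 13)))))) (l 57)) (s 1017
    (l 67) (s 2467 (s 3084 (s 3170 (r 11) (s 2041 (l 67) (s 4706 (s 3577 (s 3682 (r 11) (r 13)) (l 57)) (r 13)))) (l
    63)) (s 3084 (l 61) (s 3170 (s 2041 (s 3491 (s 4108 (s 2658 (s 1529 (s 2979 (r 11) (r 13)) (l 57)) (r 13)) (l
    63)) (r 13)) (l 57)) (r 13)))))))))))) (r 11))))) (l 61)) (s 4 (s 1036 (l 61) (s 1 (s 1545 (l 57) (s 920 (s 931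
    (s 1548 (s 930 (r 13) (r 11)) (l 63)) (s 1548 (l 61) (s 930 (r 13) (s 2057 (l 57) (s 1443 (s 2060 (s 1442 (r 13)
    (s 2569 (l 57) (s 1954 (r 13) (s 3081 (l 57) (s 2466 (r 13) (s 3593 (l 57) (s 3490 (r 13) (s 4617 (r 11) (s 5026
    (s 6153 (r 11) (l 67)) (r 11)))))))))) (l 63)) (r 13)))))) (s 2569 (l 57) (s 931 (r 11) (s 1548 (l 61) (s 930 (s
    1432 (r 13) (s 3593 (l 57) (s 1443 (s 2060 (s 1944 (r 13) (r 11)) (l 63)) (s 2060 (l 61) (s 1944 (r 13) (s 4617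
    (l 57) (s 1955 (s 2572 (s 2456 (r 13) (s 5641 (l 57) (s 3480 (r 13) (s 7689 (l 57) (s 5016 (s 10249 (s 3992 (r
    13) (s 8713 (l 57) (s 4504 (r 13) (r 11)))) (l 67)) (r 11)))))) (l 63)) (s 2572 (l 61) (s 2456 (r 13) (s 5641 (l
    57) (s 2467 (s 3084 (s 3480 (r 13) (s 7689 (l 57) (s 5016 (r 13) (s 10761 (l 57) (s 7064 (r 13) (s 14857 (l 57)
    (s 10136 (r 13) (s 21001 (l 57) (s 14744 (s 29705 (s 12184 (r 13) (s 25097 (l 57) (s 13208 (s 26633 (s 12696 (r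
    13) (r 11)) (l 67)) (r 11)))) (l 67)) (r 11)))))))))) (l 63)) (s 3084 (r 13) (s 3480 (r 13) (s 7689 (l 57) (s
    3491 (s 4108 (r 13) (l 63)) (r 13)))))))))))))))) (s 3081 (l 57) (s 1432 (s 1443 (r 11) (s 2060 (l 61) (s 1442 (s
    3593 (s 1955 (r 11) (s 2572 (l 61) (s 2467 (r 11) (s 3084 (l 61) (s 3491 (r 11) (s 4108 (r 13) (s 5027 (s 5644 (r
    13) (l 63)) (r 13)))))))) (l 67)) (r 11)))) (r 11))))))))) (l 57))) (l 61)))) (s 3 (r 37) (s 2 (s 4 (s 2060 (l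
    61) (s 1 (s 1341 (s 920 (r 13) (s 931 (s 2572 (s 1122 (s 2057 (l 57) (r 13)) (r 13)) (l 63)) (r 13))) (r 37)) (r
    13))) (l 61)) (r 13))))))

theorem ref30 : Refuted false
    [⟨4, 0, 2, 1⟩, ⟨4, 0, 1, 1⟩, ⟨4, 0, 1, 0⟩, ⟨1, 1, 0, 0⟩, ⟨1, 1, 0, 1⟩, ⟨2, 1, 1, 1⟩] :=
  refuted_of_chk tr30 (cs := [⟨0, 2, 4, 9⟩, ⟨0, 1, 4, 1⟩, ⟨0, 1, 0, 16⟩, ⟨1, 0, 0, 16⟩, ⟨1, 0, 1, 1⟩, ⟨2, 1, 2, 49⟩])
    (bs := [.both 13 51, .both 65 63, .both 76 52, .both 76 52, .both 65 63, .both 25 39])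
    (by decide +kernel) (by decide +kernel) (by decide +kernel)

def tr31 : Tr :=
    (s 4 (r 37) (s 828 (s 0 (r 11) (s 832 (r 13) (s 2 (s 1 (s 1145 (l 57) (s 3 (l 63) (s 1122 (l 61) (s 1344 (r 13)
    (s 1657 (l 57) (s 1856 (r 13) (s 2169 (l 57) (s 2368 (s 2681 (s 1634 (r 13) (s 1019 (l 63) (r 13))) (r 13)) (s
    2681 (l 57) (s 1634 (s 1019 (s 3392 (r 13) (r 11)) (l 61)) (s 1019 (l 63) (s 3392 (s 3705 (s 2146 (s 1531 (s 2880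
    (r 13) (r 11)) (l 61)) (s 1531 (l 63) (s 3170 (s 2555 (s 2880 (s 3193 (s 2658 (r 13) (s 2043 (r 11) (r 13))) (r
    13)) (r 11)) (l 61)) (r 11)))) (l 67)) (r 11))))))))))))) (l 57)) (s 1 (s 1145 (l 57) (s 3 (s 1035 (l 61) (s 1344
    (r 13) (s 1657 (l 57) (s 930 (r 11) (s 1547 (l 61) (s 1856 (s 2169 (s 1442 (r 11) (r 13)) (l 67)) (s 2169 (l 57)
    (s 2368 (s 2681 (s 1442 (r 11) (s 2059 (l 61) (s 1954 (r 11) (s 2571 (l 61) (s 2466 (r 11) (s 3083 (l 61) (s 3490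
    (r 11) (s 4107 (l 61) (s 5026 (r 11) (s 5643 (l 61) (s 7074 (r 11) (s 7691 (l 61) (s 10146 (s 10763 (s 8610 (s
    9227 (s 7586 (r 11) (s 8203 (l 61) (s 8098 (r 11) (r 13)))) (l 63)) (r 13)) (l 63)) (r 13)))))))))))))) (l 67))
    (r 11))))))))) (l 61))) (l 57))))) (s 1340 (s 0 (s 2 (r 37) (s 1 (s 1216 (r 11) (l 67)) (s 2240 (l 57) (s 3 (s
    2059 (l 61) (s 930 (s 2571 (s 3264 (s 2441 (s 2752 (r 11) (r 13)) (l 57)) (r 13)) (l 63)) (r 13))) (l 61))))) (r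
    13)) (r 37))))

theorem ref31 : Refuted false
    [⟨2, 0, 1, 0⟩, ⟨1, 0, 1, 3⟩, ⟨1, 1, 0, 0⟩, ⟨1, 1, 0, 1⟩, ⟨2, 1, 1, 1⟩] :=
  refuted_of_chk tr31 (cs := [⟨0, 1, 0, 64⟩, ⟨0, 1, 3, 1⟩, ⟨1, 0, 0, 16⟩, ⟨1, 0, 1, 1⟩, ⟨2, 1, 2, 49⟩])
    (bs := [.both 88 40, .both 15 177, .both 76 52, .both 65 63, .both 25 39])
    (by decide +kernel) (by decide +kernel) (by decide +kernel)

def tr32 : Tr :=
    (s 4 (r 37) (s 828 (s 1 (s 721 (r 11) (s 0 (r 11) (s 1233 (r 11) (s 920 (l 67) (s 2 (s 3 (l 63) (s 1122 (l 61) (r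
    11))) (r 11)))))) (s 0 (s 616 (r 11) (s 1329 (s 1128 (l 57) (s 1640 (s 2 (r 13) (s 930 (r 11) (s 3 (s 1547 (l 61)
    (s 1442 (r 11) (s 2059 (l 61) (s 1954 (r 11) (s 2571 (l 61) (s 2466 (r 11) (s 3083 (l 61) (s 3490 (r 11) (s 4107
    (l 61) (s 5026 (s 5643 (s 4002 (r 11) (r 13)) (l 63)) (r 13))))))))))) (l 61)))) (l 67))) (s 1640 (l 57) (s 2 (s
    3 (l 63) (s 1122 (l 61) (s 1841 (s 2152 (s 1634 (r 13) (r 11)) (l 67)) (s 2152 (r 11) (s 2353 (s 2664 (r 11) (l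
    67)) (r 11)))))) (r 11))))) (l 57))) (s 1 (s 721 (r 36) (s 1340 (s 0 (s 616 (r 36) (l 67)) (s 1233 (l 57) (s 2 (r
    37) (s 930 (s 3 (s 2059 (l 61) (s 2571 (s 1745 (s 920 (r 13) (l 57)) (r 13)) (l 63))) (l 61)) (r 13))))) (r 37)))
    (s 1340 (s 0 (s 616 (l 57) (r 13)) (r 13)) (r 37)))))

theorem ref32 : Refuted false
    [⟨2, 0, 1, 1⟩, ⟨1, 0, 1, 2⟩, ⟨1, 1, 0, 0⟩, ⟨1, 1, 0, 1⟩, ⟨2, 1, 1, 1⟩] :=
  refuted_of_chk tr32 (cs := [⟨0, 1, 2, 9⟩, ⟨0, 1, 2, 36⟩, ⟨1, 0, 0, 16⟩, ⟨1, 0, 1, 1⟩, ⟨2, 1, 2, 49⟩])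
    (bs := [.both 13 51, .both 26 102, .both 76 52, .both 65 63, .both 25 39])
    (by decide +kernel) (by decide +kernel) (by decide +kernel)

def tr33 : Tr :=
    (s 1 (s 809 (r 11) (s 4 (r 37) (s 828 (s 1321 (r 11) (s 2 (s 0 (r 11) (s 3 (l 63) (r 11))) (r 11))) (s 1321 (r
    36) (s 2 (r 37) (s 0 (s 1852 (l 67) (r 37)) (s 1833 (r 36) (s 3 (s 2059 (l 61) (s 2345 (r 36) (s 1340 (s 1520 (l
    67) (s 3369 (s 2544 (s 930 (r 11) (s 2571 (l 61) (s 1442 (s 3083 (s 2857 (r 11) (r 13)) (l 63)) (r 13)))) (l 57))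
    (s 2544 (l 67) (s 930 (s 2571 (s 4905 (s 4080 (s 3881 (r 11) (s 3056 (l 67) (s 4393 (r 11) (r 13)))) (l 57)) (r
    13)) (l 63)) (r 13))))) (r 37)))) (l 61))))))))) (s 729 (r 13) (s 4 (r 37) (s 1241 (r 13) (s 828 (s 2 (s 0 (s
    1552 (l 57) (s 3 (l 63) (s 1122 (l 61) (s 1753 (r 13) (s 2064 (l 57) (s 2265 (r 13) (s 2576 (l 57) (s 3289 (r 13)
    (s 3600 (l 57) (s 4825 (s 5136 (s 1634 (r 13) (s 1019 (l 63) (s 2146 (r 13) (s 1531 (l 63) (s 3801 (r 13) (s 4112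
    (l 57) (s 3170 (r 13) (s 2555 (l 63) (s 4706 (s 4091 (s 4313 (r 13) (r 11)) (l 61)) (s 4091 (l 63) (s 4313 (s
    4624 (s 6754 (r 13) (s 6139 (l 63) (s 9826 (r 13) (s 9211 (l 63) (s 14434 (s 13819 (s 11874 (r 13) (s 11259 (l
    63) (s 12898 (r 13) (r 11)))) (l 61)) (r 11)))))) (l 67)) (r 11)))))))))))) (l 67)) (s 5136 (l 57) (s 6873 (s
    7184 (s 1634 (s 1019 (s 5849 (r 13) (s 6160 (l 57) (s 6361 (r 13) (r 11)))) (l 61)) (s 1019 (l 63) (s 2146 (s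
    1531 (s 5849 (s 6160 (s 5337 (r 13) (r 11)) (l 67)) (r 11)) (l 61)) (r 11)))) (l 67)) (r 11))))))))))))) (l 57))
    (s 0 (s 1552 (l 57) (s 3 (s 1035 (l 61) (s 1753 (r 13) (s 2064 (l 57) (s 2265 (s 2576 (s 930 (r 11) (r 13)) (l
    67)) (s 2576 (l 57) (s 3289 (s 3600 (s 930 (r 11) (s 1547 (l 61) (s 1442 (s 2059 (s 2777 (r 13) (r 11)) (l 63))
    (s 2059 (l 61) (s 1954 (s 2571 (s 2777 (r 13) (r 11)) (l 63)) (r 13)))))) (l 67)) (s 3600 (l 57) (s 930 (r 11) (s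
    1547 (l 61) (s 4825 (s 5136 (s 1442 (r 11) (s 2059 (l 61) (s 1954 (r 11) (s 2571 (l 61) (s 3801 (s 4112 (s 2466
    (r 11) (s 3083 (l 61) (s 3490 (r 11) (s 4107 (l 61) (s 5026 (s 5643 (s 4002 (r 11) (s 4619 (l 61) (s 4514 (r 11)
    (r 13)))) (l 63)) (r 13)))))) (l 67)) (r 11)))))) (l 67)) (r 11))))))))))) (l 61))) (l 57))) (r 13))))))

theorem ref33 : Refuted false
    [⟨2, 0, 1, 2⟩, ⟨1, 0, 1, 1⟩, ⟨1, 1, 0, 0⟩, ⟨1, 1, 0, 1⟩, ⟨2, 1, 1, 1⟩] :=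
  refuted_of_chk tr33 (cs := [⟨0, 1, 4, 4⟩, ⟨0, 1, 1, 121⟩, ⟨1, 0, 0, 16⟩, ⟨1, 0, 1, 1⟩, ⟨2, 1, 2, 49⟩])
    (bs := [.both 66 126, .both 37 27, .both 76 52, .both 65 63, .both 25 39])
    (by decide +kernel) (by decide +kernel) (by decide +kernel)

def tr34 : Tr :=
    (s 5 (r 42) (s 3 (s 0 (s 616 (r 16) (s 829 (s 4 (l 63) (r 7)) (s 4 (r 37) (s 1211 (r 37) (s 2747 (r 37) (s 2 (s 1
    (s 2365 (l 67) (r 37)) (l 47)) (r 13))))))) (r 9)) (s 0 (s 843 (r 16) (s 616 (r 17) (s 829 (s 4 (s 948 (l 61) (r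
    6)) (r 7)) (s 4 (r 42) (l 61))))) (s 843 (r 16) (s 829 (s 4 (s 948 (l 61) (r 7)) (r 7)) (s 4 (s 948 (r 17) (s
    1355 (r 17) (r 19))) (l 61)))))))

theorem ref34 : Refuted true
    [⟨4, 0, 2, 1⟩, ⟨4, 0, 1, 1⟩, ⟨4, 0, 1, 0⟩, ⟨1, 1, 0, -1⟩, ⟨1, 1, 0, 2⟩, ⟨2, 1, 1, 1⟩] :=
  refuted_of_chk tr34 (cs := [⟨0, 2, 4, 9⟩, ⟨0, 1, 4, 1⟩, ⟨0, 1, 0, 16⟩, ⟨1, 0, -1, 81⟩, ⟨1, 0, 2, 36⟩, ⟨2, 1, 2, 49⟩])
    (bs := [.both 13 51, .both 65 63, .both 76 52, .both 87 41, .both 54 138, .both 25 39])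
    (by decide +kernel) (by decide +kernel) (by decide +kernel)

def tr35 : Tr :=
    (s 4 (s 2 (r 37) (s 716 (r 37) (s 3 (s 1866 (l 63) (r 37)) (s 1 (s 842 (r 11) (s 1228 (r 37) (s 0 (l 67) (s 1432
    (l 67) (s 1354 (s 1619 (l 63) (r 37)) (r 37)))))) (s 842 (s 0 (r 11) (s 1228 (r 36) (r 11))) (s 1228 (r 37) (s 0
    (s 1329 (l 67) (s 1354 (s 1619 (l 63) (r 37)) (r 37))) (s 1354 (s 1619 (l 63) (r 37)) (r 37))))))))) (s 2 (s 3 (s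
    828 (l 63) (r 37)) (s 1722 (l 61) (s 1 (s 828 (s 0 (s 616 (r 11) (l 67)) (s 721 (r 11) (s 2234 (s 1619 (s 1233 (r
    11) (s 920 (l 67) (r 11))) (l 61)) (s 1619 (r 11) (s 3258 (s 2643 (s 1233 (r 11) (s 920 (l 67) (r 11))) (l 61))
    (s 2643 (r 11) (s 1233 (r 11) (s 920 (l 67) (s 4794 (s 4179 (r 11) (l 61)) (r 11)))))))))) (s 2746 (r 37) (s 0 (s
    1340 (s 1128 (s 1233 (r 36) (l 67)) (l 67)) (r 37)) (s 1233 (l 57) (r 13))))) (s 828 (s 0 (s 1128 (l 57) (s 2234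
    (s 1619 (s 1329 (r 13) (s 1640 (l 57) (s 1841 (r 13) (s 2152 (r 11) (s 2353 (s 2664 (r 11) (l 67)) (r 11)))))) (l
    61)) (s 1619 (l 63) (s 3258 (s 2643 (s 1329 (r 13) (s 1640 (l 57) (s 1841 (s 2152 (s 2746 (r 13) (s 2131 (r 11)
    (r 13))) (l 67)) (s 2152 (l 57) (s 2353 (s 2664 (s 2746 (s 2131 (r 11) (r 13)) (r 11)) (l 67)) (s 2664 (r 11) (s
    3377 (s 3688 (r 11) (l 67)) (r 11)))))))) (l 61)) (s 2643 (l 63) (s 4794 (s 4179 (s 1329 (r 13) (s 1640 (l 57) (s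
    1841 (s 2152 (s 3770 (r 13) (s 3155 (r 11) (s 4282 (s 3667 (r 11) (r 13)) (r 11)))) (l 67)) (s 2152 (r 11) (s
    2353 (s 2664 (r 11) (l 67)) (r 11)))))) (l 61)) (s 4179 (l 63) (s 1329 (s 1640 (s 6842 (r 13) (s 6227 (l 63) (s
    9914 (r 13) (s 9299 (l 63) (r 13))))) (l 67)) (s 1640 (l 57) (s 6842 (s 6227 (s 1841 (s 2152 (s 5818 (s 5203 (r
    11) (l 61)) (r 11)) (l 67)) (r 11)) (l 61)) (s 6227 (l 63) (s 1841 (s 2152 (s 9914 (s 9299 (r 11) (l 61)) (r 11))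
    (l 67)) (r 11))))))))))))) (l 57)) (s 2746 (r 37) (s 0 (s 1640 (l 57) (r 13)) (r 13))))))) (s 3 (s 947 (l 61) (s
    1 (s 842 (r 11) (s 1459 (l 61) (s 828 (s 0 (r 11) (s 721 (r 11) (s 1354 (r 11) (s 1971 (l 61) (s 1866 (r 11) (s
    2483 (l 61) (s 2378 (r 11) (s 2995 (l 61) (s 3402 (r 11) (s 4019 (l 61) (r 11))))))))))) (s 2483 (l 61) (s 0 (s
    1354 (s 1340 (r 11) (s 3507 (l 61) (s 721 (r 11) (s 1852 (s 1128 (r 11) (l 67)) (s 4531 (l 61) (s 616 (r 11) (s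
    2364 (s 1640 (s 1745 (r 11) (l 67)) (l 67)) (s 5555 (l 61) (s 3388 (s 2664 (s 2769 (r 11) (l 67)) (l 67)) (s 7603
    (r 37) (s 1233 (r 11) (s 4924 (s 3688 (s 4305 (s 10163 (r 37) (l 63)) (l 67)) (l 67)) (r 37))))))))))))) (s 2995
    (l 61) (s 1340 (s 1128 (s 1233 (r 36) (l 67)) (l 67)) (s 4019 (r 37) (s 721 (r 11) (s 1866 (s 1852 (s 1128 (s
    1745 (r 11) (l 67)) (l 67)) (r 37)) (r 37))))))) (s 1233 (l 57) (s 1354 (s 1340 (s 2995 (s 1745 (r 11) (s 920 (l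
    67) (r 11))) (l 63)) (s 3507 (l 61) (s 1745 (l 57) (s 1852 (s 4019 (s 920 (r 13) (s 2257 (r 11) (s 3281 (r 11) (s
    1944 (l 67) (s 4817 (r 11) (s 3480 (l 67) (s 6865 (r 11) (s 5528 (l 67) (s 9937 (r 11) (s 8600 (l 67) (s 14545 (s
    13208 (s 11985 (s 10648 (s 10961 (r 11) (s 9624 (l 67) (r 11))) (r 11)) (s 10648 (r 13) (s 13009 (s 11672 (s
    12497 (s 11160 (r 13) (r 11)) (r 13)) (l 57)) (r 13)))) (l 57)) (s 13208 (r 13) (s 21713 (s 20376 (r 13) (l 57))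
    (r 13)))))))))))))) (l 63)) (s 4531 (l 61) (s 2257 (l 57) (s 2364 (s 5043 (s 920 (r 13) (s 2769 (l 57) (s 3793 (s
    1944 (r 13) (l 57)) (r 13)))) (l 63)) (s 5555 (l 61) (s 2769 (l 57) (s 3388 (s 7091 (r 13) (l 63)) (r
    13))))))))))) (s 2995 (l 61) (s 1340 (s 1866 (s 3507 (s 1745 (s 920 (r 13) (r 11)) (s 920 (r 13) (s 2257 (s 1432
    (r 13) (l 57)) (r 13)))) (l 63)) (s 3507 (r 13) (s 2378 (s 4019 (r 13) (l 63)) (r 13)))) (s 4019 (r 37) (s 1745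
    (l 57) (r 13)))))))))))) (s 842 (r 11) (s 1459 (l 61) (s 828 (s 0 (s 1128 (l 57) (s 1354 (r 11) (s 1971 (l 61) (s
    1866 (r 11) (s 2483 (l 61) (s 2378 (r 11) (s 2995 (l 61) (s 3402 (r 11) (s 4019 (l 61) (s 4938 (s 5555 (s 1329 (s
    1640 (r 11) (l 67)) (r 11)) (l 63)) (s 5555 (l 61) (s 1329 (s 1640 (s 6986 (r 11) (s 7603 (l 61) (s 10058 (s
    10675 (s 8522 (r 11) (s 9139 (l 61) (r 11))) (r 11)) (s 10675 (l 61) (s 14666 (s 15283 (s 12106 (s 12723 (s 11082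
    (r 11) (s 11699 (l 61) (s 11594 (r 11) (r 13)))) (r 11)) (s 12723 (r 13) (s 13130 (s 13747 (r 13) (l 63)) (r
    13)))) (l 63)) (s 15283 (r 13) (s 21834 (s 22451 (r 13) (l 63)) (r 13)))))))) (l 67)) (s 1640 (r 11) (s 6986 (r
    11) (s 7603 (l 61) (r 11)))))))))))))))) (l 57)) (s 2483 (l 61) (s 0 (s 1640 (l 57) (s 1354 (s 1340 (s 2995 (s
    1329 (r 13) (s 2152 (l 57) (s 1841 (r 13) (s 2664 (r 11) (s 2353 (s 3176 (r 11) (r 13)) (r 11)))))) (l 63)) (s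
    3507 (l 61) (s 2152 (l 57) (s 1852 (s 4019 (s 1329 (r 13) (s 2664 (l 57) (s 1841 (r 13) (s 3176 (l 57) (s 2353 (r
    13) (s 3688 (l 57) (s 3377 (r 13) (s 4712 (l 57) (r 13))))))))) (l 63)) (s 4531 (r 13) (s 2664 (l 57) (s 2364 (s
    5043 (r 13) (l 63)) (r 13)))))))) (r 13))) (l 57)))))))) (l 61))))

theorem ref35 : Refuted false
    [⟨2, 0, 1, 1⟩, ⟨1, 0, 1, 2⟩, ⟨1, 1, 0, -1⟩, ⟨1, 1, 0, 2⟩, ⟨2, 1, 1, 1⟩] :=
  refuted_of_chk tr35 (cs := [⟨0, 1, 2, 9⟩, ⟨0, 1, 2, 36⟩, ⟨1, 0, -1, 81⟩, ⟨1, 0, 2, 36⟩, ⟨2, 1, 2, 49⟩])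
    (bs := [.both 13 51, .both 26 102, .both 87 41, .both 54 138, .both 25 39])
    (by decide +kernel) (by decide +kernel) (by decide +kernel)

def tr36 : Tr :=
    (s 3 (r 37) (s 843 (s 0 (s 616 (r 11) (s 4 (s 5 (l 63) (r 11)) (r 11))) (s 4 (s 5 (l 63) (s 2148 (l 61) (s 1 (r
    11) (s 2 (r 11) (l 57))))) (s 5 (s 629 (l 61) (s 932 (r 11) (s 1 (r 11) (s 2 (r 11) (s 1653 (l 57) (s 2980 (r 11)
    (s 920 (s 929 (s 930 (s 2165 (s 3492 (r 11) (l 61)) (l 67)) (r 11)) (r 11)) (r 11)))))))) (r 11)))) (s 0 (s 1355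
    (s 616 (r 11) (s 4 (r 37) (s 5 (s 629 (r 37) (s 932 (s 1141 (r 37) (l 63)) (r 37))) (l 61)))) (r 37)) (s 1355 (s
    4 (r 37) (s 5 (s 629 (r 37) (s 932 (s 1141 (r 37) (l 63)) (r 37))) (l 61))) (r 37)))))

theorem ref36 : Refuted false
    [⟨4, 0, 2, 1⟩, ⟨4, 0, 1, 0⟩, ⟨4, 0, 1, 0⟩, ⟨1, 1, 0, -1⟩, ⟨1, 1, 0, 0⟩, ⟨2, 1, 1, 2⟩] :=
  refuted_of_chk tr36 (cs := [⟨0, 2, 4, 9⟩, ⟨0, 1, 0, 16⟩, ⟨0, 1, 0, 16⟩, ⟨1, 0, -1, 81⟩, ⟨1, 0, 0, 16⟩, ⟨2, 1, 4, 4⟩])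
    (bs := [.both 13 51, .both 76 52, .both 76 52, .both 87 41, .both 76 52, .both 14 114])
    (by decide +kernel) (by decide +kernel) (by decide +kernel)

def tr37 : Tr :=
    (s 2 (r 37) (s 842 (s 0 (r 11) (s 832 (s 1 (s 721 (r 11) (s 3 (r 13) (l 71))) (r 13)) (s 1 (s 721 (r 11) (s 3 (s
    1233 (r 11) (s 4 (l 63) (r 11))) (r 11))) (s 3 (l 53) (s 2979 (l 53) (s 4 (s 1652 (l 61) (s 1344 (s 1329 (s 2164
    (s 3491 (r 11) (l 61)) (l 67)) (r 11)) (r 11))) (r 11))))))) (s 1354 (s 0 (s 1 (s 721 (r 11) (s 3 (r 37) (l 71)))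
    (s 3 (r 37) (s 1329 (l 71) (s 4 (s 628 (r 37) (s 1216 (r 11) (s 1841 (l 67) (s 931 (s 1140 (r 37) (l 63)) (r
    37))))) (l 61))))) (s 832 (r 13) (s 1 (s 721 (r 11) (s 3 (r 37) (s 1344 (r 13) (s 4 (s 628 (r 37) (s 931 (s 1140
    (r 37) (l 63)) (r 37))) (l 61))))) (s 3 (r 37) (s 2467 (l 53) (r 37)))))) (r 37))))

theorem ref37 : Refuted false
    [⟨2, 0, 1, 0⟩, ⟨1, 0, 1, 2⟩, ⟨1, 1, 0, -1⟩, ⟨1, 1, 0, 0⟩, ⟨2, 1, 1, 2⟩] :=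
  refuted_of_chk tr37 (cs := [⟨0, 1, 0, 64⟩, ⟨0, 1, 2, 36⟩, ⟨1, 0, -1, 81⟩, ⟨1, 0, 0, 16⟩, ⟨2, 1, 4, 4⟩])
    (bs := [.both 88 40, .both 26 102, .both 87 41, .both 76 52, .both 14 114])
    (by decide +kernel) (by decide +kernel) (by decide +kernel)

def tr38 : Tr :=
    (s 1 (s 2 (r 37) (s 842 (r 11) (s 809 (r 11) (s 3 (r 37) (s 4 (s 628 (r 37) (s 0 (l 67) (s 1432 (l 67) (s 1354 (s
    1321 (r 11) (s 1944 (l 67) (s 1833 (r 11) (s 2456 (l 67) (s 931 (r 35) (r 37)))))) (r 37))))) (l 61)))))) (s 2 (r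
    37) (s 729 (r 13) (s 842 (s 3 (s 4 (l 63) (s 2147 (l 61) (s 0 (s 1640 (l 57) (s 1241 (r 13) (r 11))) (l 57)))) (s
    4 (s 628 (l 61) (s 931 (l 63) (s 0 (s 1241 (s 616 (r 11) (r 13)) (r 11)) (s 1140 (l 57) (s 1955 (l 63) (s 1241 (r
    13) (s 1652 (l 57) (s 2979 (r 11) (s 1753 (s 920 (s 2164 (s 3491 (r 11) (l 61)) (r 11)) (r 11)) (r 11))))))))))
    (l 61))) (s 3 (r 37) (s 4 (s 628 (r 37) (s 0 (s 1354 (s 1241 (r 13) (s 1753 (r 13) (s 616 (r 36) (s 931 (s 1140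
    (r 37) (l 63)) (r 37))))) (r 37)) (s 1140 (r 37) (s 1354 (s 1443 (l 63) (r 37)) (r 37))))) (l 61)))))))

theorem ref38 : Refuted false
    [⟨2, 0, 1, 1⟩, ⟨1, 0, 1, 1⟩, ⟨1, 1, 0, -1⟩, ⟨1, 1, 0, 0⟩, ⟨2, 1, 1, 2⟩] :=
  refuted_of_chk tr38 (cs := [⟨0, 1, 2, 9⟩, ⟨0, 1, 1, 121⟩, ⟨1, 0, -1, 81⟩, ⟨1, 0, 0, 16⟩, ⟨2, 1, 4, 4⟩])
    (bs := [.both 13 51, .both 37 27, .both 87 41, .both 76 52, .both 14 114])
    (by decide +kernel) (by decide +kernel) (by decide +kernel)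

end CL.Gold.Ly
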